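import Cfsg.Agent.Lib.Cores.Components
import Cfsg.Agent.Lib.Char.Burnside
import Mathlib.RepresentationTheory.Basic
import Mathlib.Algebra.CharP.Lemmas
import Mathlib.GroupTheory.IsPerfect
import Mathlib.GroupTheory.PGroup
import Mathlib.Tactic.NoncommRing
import Mathlib.FieldTheory.Finiteness

/-!
Tools for the P(G,V) theorem: perfect groups acting linearly, orbit products and the subgroup fixing
the image of `a - 1`.
-/

namespace CfsgLib.LocalEven.PGV

open Subgroup
open scoped commutatorElement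

/-- The group-level hypotheses: `A` is elementary abelian and `K` behaves like a component for `A`. -/
structure Setup {G : Type*} [Group G] (p : ℕ) (A K : Subgroup G) : Prop where
  comm : ∀ x ∈ A, ∀ y ∈ A, Commute x y
  exp : ∀ x ∈ A, x ^ p = 1
  perfect : ⁅K, K⁆ = K
  qs : ∀ N : Subgroup G, N ≤ K → (∀ k ∈ K, ∀ n ∈ N, k * n * k⁻¹ ∈ N) →
    N = K ∨ ∀ n ∈ N, ∀ k ∈ K, Commute n k
  dich : ∀ x ∈ A, x ∈ normalizer (K : Set G) ∨ ∀ k ∈ K, ∀ l ∈ K, Commute k (x * l * x⁻¹)

section Group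

variable {G : Type*} [Group G] {K : Subgroup G}

theorem le_of_commutators (hK : ⁅K, K⁆ = K) {N : Subgroup G} (h : ∀ u ∈ K, ∀ v ∈ K, ⁅u, v⁆ ∈ N) :
    K ≤ N := hK ▸ commutator_le.2 h

/-- An element whose commutators with a perfect subgroup are central in it centralises it. -/
theorem commute_of_central_commutators (hK : ⁅K, K⁆ = K) {b : G}
    (h : ∀ u ∈ K, ⁅u, b⁆ ∈ K ∧ ∀ k ∈ K, Commute ⁅u, b⁆ k) : ∀ u ∈ K, Commute u b := by
  suffices h' : K ≤ centralizer ({b} : Set G) from fun u hu => mem_centralizer_singleton_iff.1 (h' hu)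
  refine le_of_commutators hK fun u hu v hv => ?_
  rw [mem_centralizer_singleton_iff]
  have e : ∀ w, b * w * b⁻¹ = (⁅w, b⁆)⁻¹ * w := fun w => by rw [commutatorElement_def]; group
  obtain ⟨hs, hsc⟩ := h u hu
  obtain ⟨ht, htc⟩ := h v hv
  set s := ⁅u, b⁆
  set t := ⁅v, b⁆
  have hconj : b * ⁅u, v⁆ * b⁻¹ = ⁅u, v⁆ := by
    have h1 : b * ⁅u, v⁆ * b⁻¹ = ⁅s⁻¹ * u, t⁻¹ * v⁆ := by
      rw [← e u, ← e v]; simp only [commutatorElement_def]; group
    have c1 : Commute s⁻¹ u := (hsc u hu).inv_left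
    have c2 : Commute s⁻¹ v := (hsc v hv).inv_left
    have c3 : Commute t⁻¹ u := (htc u hu).inv_left
    have c4 : Commute t⁻¹ v := (htc v hv).inv_left
    have c5 : Commute s⁻¹ t⁻¹ := (hsc t ht).inv_left.inv_right
    have h2 : ⁅s⁻¹ * u, t⁻¹ * v⁆ = ⁅u, v⁆ := by
      rw [commutatorElement_mul_left_eq_conj_mul]
      have a1 : ⁅s⁻¹, t⁻¹ * v⁆ = 1 := commutatorElement_eq_one_iff_commute.2 (c5.mul_right c2)
      rw [a1, mul_one, commutatorElement_mul_right_eq_mul_conj]
      have a2 : ⁅u, t⁻¹⁆ = 1 := commutatorElement_eq_one_iff_commute.2 c3.symm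
      rw [a2, one_mul]
      have a3 : Commute s⁻¹ (t⁻¹ * ⁅u, v⁆ * (t⁻¹)⁻¹) := by
        have h6 : Commute s⁻¹ ⁅u, v⁆ := by
          rw [commutatorElement_def]
          exact ((c1.mul_right c2).mul_right c1.inv_right).mul_right c2.inv_right
        exact (c5.mul_right h6).mul_right c5.inv_right
      rw [a3.eq, mul_inv_cancel_right]
      have a4 : Commute t⁻¹ ⁅u, v⁆ := by
        rw [commutatorElement_def]
        exact ((c3.mul_right c4).mul_right c3.inv_right).mul_right c4.inv_right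
      rw [a4.eq, mul_inv_cancel_right]
    rw [h1, h2]
  calc ⁅u, v⁆ * b = b * ⁅u, v⁆ * b⁻¹ * b := by rw [hconj]
    _ = b * ⁅u, v⁆ := inv_mul_cancel_right _ _

theorem commutator_mem_of_mem_normalizer {b u : G} (hb : b ∈ normalizer (K : Set G)) (hu : u ∈ K) :
    ⁅u, b⁆ ∈ K := by
  rw [commutatorElement_def, show u * b * u⁻¹ * b⁻¹ = u * (b * u⁻¹ * b⁻¹) by group]
  exact mul_mem hu ((mem_normalizer_iff.1 hb u⁻¹).1 (inv_mem hu))

/-- The product of the first `n` conjugates of `u` under powers of `a`. -/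
def orbitProd (a u : G) : ℕ → G
  | 0 => 1
  | n + 1 => orbitProd a u n * (a ^ n * u * (a ^ n)⁻¹)

theorem commute_orbitProd {a u g : G} : ∀ n, (∀ i < n, Commute g (a ^ i * u * (a ^ i)⁻¹)) →
    Commute g (orbitProd a u n)
  | 0, _ => Commute.one_right g
  | n + 1, h => (commute_orbitProd n fun i hi => h i (by omega)).mul_right (h n (by omega))

theorem orbitProd_mem {a u : G} {H : Subgroup G} : ∀ n, (∀ i < n, a ^ i * u * (a ^ i)⁻¹ ∈ H) →
    orbitProd a u n ∈ H
  | 0, _ => one_mem H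
  | n + 1, h => mul_mem (orbitProd_mem n fun i hi => h i (by omega)) (h n (by omega))

theorem conj_orbitProd {a u g : G} (h : Commute g a) :
    ∀ n, g * orbitProd a u n * g⁻¹ = orbitProd a (g * u * g⁻¹) n
  | 0 => by simp [orbitProd]
  | n + 1 => by
    have hn : g * a ^ n = a ^ n * g := (h.pow_right n).eq
    have hn' : (a ^ n)⁻¹ * g⁻¹ = g⁻¹ * (a ^ n)⁻¹ := by rw [← mul_inv_rev, hn, mul_inv_rev]
    simp only [orbitProd]
    rw [← conj_orbitProd h n]
    calc g * (orbitProd a u n * (a ^ n * u * (a ^ n)⁻¹)) * g⁻¹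
        = (g * orbitProd a u n * g⁻¹) * ((g * a ^ n) * u * ((a ^ n)⁻¹ * g⁻¹)) := by group
      _ = (g * orbitProd a u n * g⁻¹) * ((a ^ n * g) * u * (g⁻¹ * (a ^ n)⁻¹)) := by rw [hn, hn']
      _ = _ := by group

theorem orbitProd_shift (a u : G) :
    ∀ n, u * (a * orbitProd a u n * a⁻¹) = orbitProd a u (n + 1)
  | 0 => by simp [orbitProd]
  | n + 1 => by
    show u * (a * (orbitProd a u n * (a ^ n * u * (a ^ n)⁻¹)) * a⁻¹)
      = orbitProd a u (n + 1) * (a ^ (n + 1) * u * (a ^ (n + 1))⁻¹)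
    conv_rhs => rw [← orbitProd_shift a u n, pow_succ' a n, mul_inv_rev]
    group

/-- The conjugates of `K` under the powers `a ^ i`, `i < p`, commute pairwise. -/
def Spread (p : ℕ) (a : G) (K : Subgroup G) : Prop :=
  ∀ i < p, ∀ j < p, i ≠ j → ∀ k ∈ K, ∀ l ∈ K,
    Commute (a ^ i * k * (a ^ i)⁻¹) (a ^ j * l * (a ^ j)⁻¹)

theorem Spread.orbitProd_mul {p : ℕ} {a : G} (hs : Spread p a K) {u v : G} (hu : u ∈ K) (hv : v ∈ K) :
    ∀ n ≤ p, orbitProd a (u * v) n = orbitProd a u n * orbitProd a v n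
  | 0, _ => by simp [orbitProd]
  | n + 1, hn => by
    have hc : Commute (a ^ n * u * (a ^ n)⁻¹) (orbitProd a v n) :=
      commute_orbitProd n fun i hi => hs n (by omega) i (by omega) (by omega) u hu v hv
    have he : a ^ n * (u * v) * (a ^ n)⁻¹ = (a ^ n * u * (a ^ n)⁻¹) * (a ^ n * v * (a ^ n)⁻¹) := by
      group
    simp only [orbitProd]
    rw [hs.orbitProd_mul hu hv n (by omega), he]
    calc orbitProd a u n * orbitProd a v n * ((a ^ n * u * (a ^ n)⁻¹) * (a ^ n * v * (a ^ n)⁻¹))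
        = orbitProd a u n * (orbitProd a v n * (a ^ n * u * (a ^ n)⁻¹)) * (a ^ n * v * (a ^ n)⁻¹) := by
          simp only [mul_assoc]
      _ = orbitProd a u n * ((a ^ n * u * (a ^ n)⁻¹) * orbitProd a v n) * (a ^ n * v * (a ^ n)⁻¹) := by
          rw [hc.eq]
      _ = _ := by simp only [mul_assoc]

theorem orbitProd_one (a : G) : ∀ n, orbitProd a 1 n = 1
  | 0 => rfl
  | n + 1 => by simp [orbitProd, orbitProd_one a n]

theorem Spread.orbitProd_inv {p : ℕ} {a : G} (hs : Spread p a K) {u : G} (hu : u ∈ K) :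
    orbitProd a u⁻¹ p = (orbitProd a u p)⁻¹ := by
  refine eq_inv_of_mul_eq_one_left ?_
  rw [← hs.orbitProd_mul (inv_mem hu) hu p le_rfl, inv_mul_cancel, orbitProd_one]

theorem Spread.commute_orbitProd_self {p : ℕ} {a : G} (hs : Spread p a K) (hp : 1 < p) (hap : a ^ p = 1)
    {u : G} (hu : u ∈ K) : Commute a (orbitProd a u p) := by
  have h1 : Commute u (orbitProd a u p) := by
    refine commute_orbitProd p fun i hi => ?_
    rcases Nat.eq_zero_or_pos i with rfl | hi0
    · simp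
    · simpa using hs 0 (by omega) i hi (by omega) u hu u hu
  have h2 : u * (a * orbitProd a u p * a⁻¹) = orbitProd a u p * u := by
    rw [orbitProd_shift]; simp [orbitProd, hap]
  rw [← h1.eq] at h2
  have h3 := mul_left_cancel h2
  calc a * orbitProd a u p = a * orbitProd a u p * a⁻¹ * a := (inv_mul_cancel_right _ _).symm
    _ = orbitProd a u p * a := by rw [h3]

/-- The subgroup of elements of `K` whose orbit product lies in `H`. -/
def orbitPre {p : ℕ} {a : G} (hs : Spread p a K) (H : Subgroup G) : Subgroup G where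
  carrier := {u | u ∈ K ∧ orbitProd a u p ∈ H}
  one_mem' := ⟨one_mem K, by rw [orbitProd_one]; exact one_mem H⟩
  mul_mem' hx hy := ⟨mul_mem hx.1 hy.1, by rw [hs.orbitProd_mul hx.1 hy.1 p le_rfl]; exact mul_mem hx.2 hy.2⟩
  inv_mem' hx := ⟨inv_mem hx.1, by rw [hs.orbitProd_inv hx.1]; exact inv_mem hx.2⟩

namespace Setup

variable {p : ℕ} {A : Subgroup G} [hp : Fact p.Prime]

omit hp in
theorem exists_ne_commute (S : Setup p A K) {b : G} (hb : b ∈ normalizer (K : Set G))
    (hnc : ¬ ∀ u ∈ K, Commute u b) : ∃ u ∈ K, ¬ ∀ k ∈ K, Commute ⁅u, b⁆ k := by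
  by_contra h
  push Not at h
  exact hnc (commute_of_central_commutators S.perfect fun u hu =>
    ⟨commutator_mem_of_mem_normalizer hb hu, h u hu⟩)

omit hp in
theorem eq_of_commutator_mem (S : Setup p A K) {b : G} (hb : b ∈ normalizer (K : Set G))
    (hnc : ¬ ∀ u ∈ K, Commute u b) {N : Subgroup G} (hNK : N ≤ K)
    (hN : ∀ k ∈ K, ∀ n ∈ N, k * n * k⁻¹ ∈ N) (hmem : ∀ u ∈ K, ⁅u, b⁆ ∈ N) : N = K := by
  refine (S.qs N hNK hN).resolve_right fun h => ?_
  obtain ⟨u, hu, hne⟩ := S.exists_ne_commute hb hnc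
  exact hne (h _ (hmem u hu))

theorem pow_not_mem_normalizer (S : Setup p A K) {a : G} (ha : a ∈ A)
    (han : a ∉ normalizer (K : Set G)) {j : ℕ} (hj : 0 < j) (hjp : j < p) :
    a ^ j ∉ normalizer (K : Set G) := by
  intro h
  have ha1 : a ≠ 1 := fun h1 => han (h1 ▸ one_mem _)
  obtain ⟨m, hm⟩ := exists_pow_eq_self_of_coprime (x := a) (n := j)
    (by rw [orderOf_eq_prime (S.exp a ha) ha1]
        exact ((hp.out.coprime_iff_not_dvd).2 (Nat.not_dvd_of_pos_of_lt hj hjp)).symm)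
  exact han (hm ▸ pow_mem h m)

omit hp in
theorem commute_conj (S : Setup p A K) {x : G} (hx : x ∈ A) (hxn : x ∉ normalizer (K : Set G)) :
    ∀ k ∈ K, ∀ l ∈ K, Commute k (x * l * x⁻¹) :=
  (S.dich x hx).resolve_left hxn

omit hp in
theorem commute_conj_conj (S : Setup p A K) {x y : G} (hx : x ∈ A) (hy : y ∈ A)
    (h : x⁻¹ * y ∉ normalizer (K : Set G)) :
    ∀ k ∈ K, ∀ l ∈ K, Commute (x * k * x⁻¹) (y * l * y⁻¹) := by
  intro k hk l hl
  have h1 := S.commute_conj (mul_mem (inv_mem hx) hy) h k hk l hl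
  have h2 := h1.map (MulAut.conj x).toMonoidHom
  simpa [MulAut.conj_apply, mul_assoc] using h2

theorem spread (S : Setup p A K) {a : G} (ha : a ∈ A) (han : a ∉ normalizer (K : Set G)) :
    Spread p a K := by
  intro i hi j hj hij
  suffices h : ∀ i j, i < j → j < p → ∀ k ∈ K, ∀ l ∈ K,
      Commute (a ^ i * k * (a ^ i)⁻¹) (a ^ j * l * (a ^ j)⁻¹) by
    intro k hk l hl
    rcases Nat.lt_or_gt_of_ne hij with h1 | h1
    · exact h i j h1 hj k hk l hl
    · exact (h j i h1 hi l hl k hk).symm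
  intro i j hij hjp
  refine S.commute_conj_conj (pow_mem ha i) (pow_mem ha j) ?_
  rw [show (a ^ i)⁻¹ * a ^ j = a ^ (j - i) by
    rw [← pow_sub a hij.le |>.trans ((Commute.pow_pow_self a j i).inv_right.eq)]]
  exact S.pow_not_mem_normalizer ha han (by omega) (by omega)

/-- The key lemma: orbit products of a mover lie in a subgroup containing a normalising element. -/
theorem orbitProd_mem_of_normalizer (S : Setup p A K) {a b : G} (ha : a ∈ A)
    (han : a ∉ normalizer (K : Set G)) (hbn : b ∈ normalizer (K : Set G)) (hba : Commute b a)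
    (hnc : ¬ ∀ u ∈ K, Commute u b) (H : Subgroup G)
    (hH : ∀ g, Commute g a → ∀ h ∈ H, g * h * g⁻¹ ∈ H) (hbH : b ∈ H) :
    ∀ u ∈ K, orbitProd a u p ∈ H := by
  have hs := S.spread ha han
  have hd : ∀ u ∈ K, Commute (orbitProd a u p) a := fun u hu =>
    (hs.commute_orbitProd_self hp.out.one_lt (S.exp a ha) hu).symm
  have hM : orbitPre hs H = K := by
    refine S.eq_of_commutator_mem hbn hnc (fun u hu => hu.1) (fun k hk n hn => ⟨?_, ?_⟩) fun u hu => ?_
    · exact mul_mem (mul_mem hk hn.1) (inv_mem hk)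
    · rw [hs.orbitProd_mul (mul_mem hk hn.1) (inv_mem hk) p le_rfl, hs.orbitProd_mul hk hn.1 p le_rfl,
        hs.orbitProd_inv hk]
      exact hH _ (hd k hk) _ hn.2
    · refine ⟨commutator_mem_of_mem_normalizer hbn hu, ?_⟩
      have hbu : b * u⁻¹ * b⁻¹ ∈ K := (mem_normalizer_iff.1 hbn u⁻¹).1 (inv_mem hu)
      rw [commutatorElement_def, show u * b * u⁻¹ * b⁻¹ = u * (b * u⁻¹ * b⁻¹) by group,
        hs.orbitProd_mul hu hbu p le_rfl, ← conj_orbitProd hba, hs.orbitProd_inv hu,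
        show orbitProd a u p * (b * (orbitProd a u p)⁻¹ * b⁻¹)
          = (orbitProd a u p * b * (orbitProd a u p)⁻¹) * b⁻¹ by group]
      exact mul_mem (hH _ (hd u hu) b hbH) (inv_mem hbH)
  intro u hu
  exact (show u ∈ orbitPre hs H from hM.symm ▸ hu).2

end Setup

end Group

section Rep

variable {G k V : Type*} [Group G] [CommRing k] [AddCommGroup V] [Module k V] (ρ : Representation k G V)

theorem rho_mul_inv (g : G) : ρ g * ρ g⁻¹ = 1 := by rw [← map_mul, mul_inv_cancel, map_one]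

theorem rho_inv_mul (g : G) : ρ g⁻¹ * ρ g = 1 := by rw [← map_mul, inv_mul_cancel, map_one]

theorem rho_conj_mul (g u : G) : ρ (g * u * g⁻¹) * ρ g = ρ g * ρ u := by
  rw [← map_mul, ← map_mul, inv_mul_cancel_right]

theorem rho_commute {g h : G} (hgh : Commute g h) : Commute (ρ g) (ρ h) := hgh.map ρ

/-- Elements fixing `ρ a - 1` from both sides. -/
def fixT (a : G) : Subgroup G where
  carrier := {g | ρ g * (ρ a - 1) = ρ a - 1 ∧ (ρ a - 1) * ρ g = ρ a - 1}
  one_mem' := by simp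
  mul_mem' {x y} hx hy := ⟨by rw [map_mul, mul_assoc, hy.1, hx.1],
    by rw [map_mul, ← mul_assoc, hx.2, hy.2]⟩
  inv_mem' {x} hx := ⟨by conv_lhs => rw [← hx.1, ← mul_assoc, rho_inv_mul, one_mul],
    by conv_lhs => rw [← hx.2, mul_assoc, rho_mul_inv, mul_one]⟩

theorem fixT_conj {a g : G} (hga : Commute g a) {h : G} (hh : h ∈ fixT ρ a) :
    g * h * g⁻¹ ∈ fixT ρ a := by
  have hc : Commute (ρ g) (ρ a - 1) := (rho_commute ρ hga).sub_right (Commute.one_right _)
  have hc' : Commute (ρ g⁻¹) (ρ a - 1) :=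
    (rho_commute ρ hga.inv_left).sub_right (Commute.one_right _)
  constructor
  · simp only [map_mul]
    rw [mul_assoc, hc'.eq, ← mul_assoc, mul_assoc (ρ g) (ρ h), hh.1, hc.eq, mul_assoc, rho_mul_inv,
      mul_one]
  · simp only [map_mul]
    rw [← mul_assoc, ← mul_assoc, ← hc.eq, mul_assoc (ρ g) (ρ a - 1), hh.2, hc.eq, mul_assoc,
      rho_mul_inv, mul_one]

theorem mem_fixT_of_quad {a b : G} (hba : Commute b a) (h : (ρ b - 1) * (ρ a - 1) = 0) :
    b ∈ fixT ρ a := by
  have h1 : ρ b * (ρ a - 1) = ρ a - 1 := sub_eq_zero.1 (by rw [← h]; noncomm_ring)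
  exact ⟨h1, by rw [← ((rho_commute ρ hba).sub_right (Commute.one_right _)).eq, h1]⟩

theorem sub_one_comm {g h : G} (hgh : Commute g h) : Commute (ρ g - 1) (ρ h - 1) :=
  ((rho_commute ρ hgh).sub_right (Commute.one_right _)).sub_left
    ((Commute.one_left (ρ h)).sub_right (Commute.one_right _))

variable {K : Subgroup G}

theorem eq_one_of_commute (hK : ⁅K, K⁆ = K) (h : ∀ u ∈ K, ∀ v ∈ K, Commute (ρ u) (ρ v)) :
    ∀ u ∈ K, ρ u = 1 := fun u hu =>
  (le_of_commutators hK (N := MonoidHom.ker ρ) fun u hu v hv => by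
    rw [MonoidHom.mem_ker, commutatorElement_def, map_mul, map_mul, map_mul, (h u hu v hv).eq,
      mul_assoc (ρ v) (ρ u), rho_mul_inv, mul_one, rho_mul_inv]) hu

/-- Representation images whose commutators are central form a trivial group when `K` is perfect. -/
theorem eq_one_of_commutators_commute (hK : ⁅K, K⁆ = K)
    (h : ∀ u ∈ K, ∀ v ∈ K, ∀ w ∈ K, Commute (ρ ⁅u, v⁆) (ρ w)) : ∀ u ∈ K, ρ u = 1 := by
  refine eq_one_of_commute ρ hK fun u hu w hw => ?_
  have h' : K ≤ (centralizer ({ρ.toHomUnits w} : Set (Module.End k V)ˣ)).comap ρ.toHomUnits :=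
    le_of_commutators hK fun a ha b hb => by
      rw [mem_comap, mem_centralizer_singleton_iff]
      exact Units.ext (h a ha b hb w hw).eq
  exact congrArg Units.val (mem_centralizer_singleton_iff.1 (h' hu))

theorem map_toHomUnits_perfect (hK : ⁅K, K⁆ = K) :
    ⁅K.map ρ.toHomUnits, K.map ρ.toHomUnits⁆ = K.map ρ.toHomUnits := by
  rw [← map_commutator, hK]

theorem eq_one_of_isSolvable_image (hK : ⁅K, K⁆ = K) [hs : Group.IsSolvable (K.map ρ.toHomUnits)] :
    ∀ u ∈ K, ρ u = 1 := by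
  intro u hu
  set H := K.map ρ.toHomUnits
  have hP : Group.IsPerfect H := Subgroup.isPerfect_iff.2 (map_toHomUnits_perfect ρ hK)
  rcases subsingleton_or_nontrivial H with h | h
  · exact congrArg Units.val (congrArg Subtype.val (Subsingleton.elim
      (⟨ρ.toHomUnits u, mem_map_of_mem _ hu⟩ : H) 1))
  · exact absurd hs (Group.IsPerfect.not_isSolvable H)

end Rep

section Fin

variable {G V : Type*} [Group G] [AddCommGroup V] [Finite V] {p : ℕ} [hp : Fact p.Prime]
  [Module (ZMod p) V] (ρ : Representation (ZMod p) G V) {K : Subgroup G}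

instance finite_end : Finite (Module.End (ZMod p) V) :=
  Finite.of_injective (fun f : Module.End (ZMod p) V => (f : V → V)) DFunLike.coe_injective

omit [Finite V] in
theorem natCast_self_eq_zero : ((p : ℕ) : Module.End (ZMod p) V) = 0 := by
  rw [← map_natCast (algebraMap (ZMod p) (Module.End (ZMod p) V)), ZMod.natCast_self, map_zero]

theorem eq_one_of_unipotent (hK : ⁅K, K⁆ = K) (h : ∀ u ∈ K, ∃ n, (ρ u - 1) ^ n = 0) :
    ∀ u ∈ K, ρ u = 1 := by
  have hP : IsPGroup p (K.map ρ.toHomUnits) := by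
    rintro ⟨_, u, hu, rfl⟩
    obtain ⟨n, hn⟩ := h u hu
    refine ⟨n, Subtype.ext (Units.ext ?_)⟩
    show ρ u ^ p ^ n = 1
    obtain ⟨r, hr⟩ := (Commute.one_right (ρ u - 1)).exists_add_pow_prime_pow_eq hp.out n
    rw [sub_add_cancel, one_pow, natCast_self_eq_zero, zero_mul, zero_mul, zero_mul, add_zero] at hr
    rw [hr, pow_eq_zero_of_le (Nat.lt_pow_self hp.out.one_lt).le hn, zero_add]
  have := hP.isNilpotent
  exact eq_one_of_isSolvable_image ρ hK

theorem eq_one_of_pow_twelve (hK : ⁅K, K⁆ = K)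
    (h : ∀ u ∈ K, ∀ v ∈ K, Commute (ρ u ^ 12) (ρ v)) : ∀ u ∈ K, ρ u = 1 := by
  set H := K.map ρ.toHomUnits
  have hq : ∀ q : H ⧸ center H, q ^ 12 = 1 := by
    intro q
    obtain ⟨⟨_, u, hu, rfl⟩, rfl⟩ := QuotientGroup.mk_surjective q
    rw [← QuotientGroup.mk_pow, QuotientGroup.eq_one_iff, mem_center_iff]
    rintro ⟨_, v, hv, rfl⟩
    exact Subtype.ext (Units.ext (h u hu v hv).symm.eq)
  have hdvd : Nat.card (H ⧸ center H) ∣
      2 ^ Nat.card (H ⧸ center H) * 3 ^ Nat.card (H ⧸ center H) := by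
    have key : ∀ n : ℕ, 0 < n → (∀ q, q.Prime → q ∣ n → q = 2 ∨ q = 3) → n ∣ 2 ^ n * 3 ^ n := by
      intro n
      induction n using Nat.strong_induction_on with
      | _ n ih =>
      intro hn hpr
      rcases eq_or_ne n 1 with rfl | h1
      · exact one_dvd _
      obtain ⟨q, hqp, m, rfl⟩ := Nat.exists_prime_and_dvd h1
      have hm : 0 < m := Nat.pos_of_mul_pos_left hn
      have hlt : m < q * m := lt_mul_of_one_lt_left hm hqp.one_lt
      have h2 := ih m hlt hm fun r hr hrm => hpr r hr (hrm.mul_left q)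
      have h6 : q ∣ 2 * 3 := by
        rcases hpr q hqp (dvd_mul_right q m) with rfl | rfl <;> norm_num
      refine (Nat.mul_dvd_mul h6 h2).trans ?_
      rw [show 2 * 3 * (2 ^ m * 3 ^ m) = 2 ^ (m + 1) * 3 ^ (m + 1) by ring]
      exact Nat.mul_dvd_mul (pow_dvd_pow 2 hlt) (pow_dvd_pow 3 hlt)
    refine key _ Nat.card_pos fun q hqp hqd => ?_
    have := Fact.mk hqp
    obtain ⟨x, hx⟩ := exists_prime_orderOf_dvd_card' q hqd
    have h12 : q ∣ 2 ^ 2 * 3 := hx ▸ orderOf_dvd_of_pow_eq_one (hq x)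
    rcases hqp.dvd_mul.1 h12 with h2 | h3
    · exact Or.inl ((Nat.prime_dvd_prime_iff_eq hqp Nat.prime_two).1 (hqp.dvd_of_dvd_pow h2))
    · exact Or.inr ((Nat.prime_dvd_prime_iff_eq hqp Nat.prime_three).1 h3)
  have hsQ : Group.IsSolvable (H ⧸ center H) :=
    CfsgLib.Char.isSolvable_of_card_eq_pow_mul_pow Nat.prime_two Nat.prime_three hdvd
  have : Group.IsSolvable (center H) := Group.isSolvable_of_comm fun a b => mul_comm' a b
  have hsH : Group.IsSolvable H :=
    Group.isSolvable_of_ker_le_range (center H).subtype (QuotientGroup.mk' (center H)) (by simp)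
  exact eq_one_of_isSolvable_image ρ hK

end Fin

end CfsgLib.LocalEven.PGV
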