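import Mathlib.GroupTheory.PGroup
import Mathlib.RingTheory.LittleWedderburn
import Mathlib.Algebra.Ring.Subring.Basic
import Mathlib.Tactic.NoncommRing

/-!
Quadratic algebras with involution over a finite field of characteristic two: a 2-group of
automorphisms fixing the scalars has order at most that of the field.
-/

namespace CfsgLib.LocalEven.PGV

variable {E : Type*} [Ring E]

/-- A subring `R` with central subfield `F` and an involution `σ` with scalar trace and norm,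
the trace form being nondegenerate. -/
structure QuadData (R F : Subring E) (σ : E → E) : Prop where
  char : ∀ x : E, x + x = 0
  le : F ≤ R
  central : ∀ f ∈ F, ∀ r ∈ R, Commute f r
  inv : ∀ f ∈ F, f ≠ 0 → ∃ g ∈ F, g * f = 1
  σR : ∀ r ∈ R, σ r ∈ R
  σadd : ∀ r ∈ R, ∀ s ∈ R, σ (r + s) = σ r + σ s
  σmul : ∀ r ∈ R, ∀ s ∈ R, σ (r * s) = σ s * σ r
  σF : ∀ f ∈ F, σ f = f
  trace : ∀ r ∈ R, r + σ r ∈ F
  norm : ∀ r ∈ R, r * σ r ∈ F
  nondeg : ∀ r ∈ R, r ≠ 0 → ∃ s ∈ R, r * s + σ (r * s) ≠ 0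

namespace QuadData

variable {R F : Subring E} {σ : E → E} (D : QuadData R F σ)
include D

theorem add_cancel_left' (x y : E) : x + (x + y) = y := by rw [← add_assoc, D.char, zero_add]

theorem eq_of_add_eq_zero {x y : E} (h : x + y = 0) : x = y :=
  (eq_neg_of_add_eq_zero_left h).trans (eq_neg_of_add_eq_zero_left (D.char y)).symm

theorem sigma_eq (r : E) : σ r = (r + σ r) + r := by rw [add_comm r (σ r), add_assoc, D.char, add_zero]

theorem sigma_sigma {r : E} (hr : r ∈ R) : σ (σ r) = r := by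
  have h := D.σF _ (D.trace r hr)
  rw [D.σadd r hr _ (D.σR r hr)] at h
  calc σ (σ r) = σ r + (σ r + σ (σ r)) := (D.add_cancel_left' _ _).symm
    _ = σ r + (r + σ r) := by rw [h]
    _ = r := by rw [add_comm r, D.add_cancel_left']

theorem sq_eq {r : E} (hr : r ∈ R) : r * r = (r + σ r) * r + r * σ r := by
  have hc : σ r * r = r * σ r := by
    have h := (D.central _ (D.trace r hr) r hr).eq
    rw [add_mul, mul_add] at h
    exact add_left_cancel h
  rw [add_mul, hc, add_assoc, D.char, add_zero]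

theorem polar {r s : E} (hr : r ∈ R) (hs : s ∈ R) :
    r * s + s * r = (r + σ r) * s + (s + σ s) * r + (r * σ s + σ (r * σ s)) := by
  have h := D.sq_eq (add_mem hr hs)
  rw [D.σadd r hr s hs] at h
  rw [D.σmul r hr _ (D.σR s hs), D.sigma_sigma hs]
  refine sub_eq_zero.1 ?_
  calc _ = ((r + s) * (r + s) - r * r - s * s)
        - ((r + s + (σ r + σ s)) * (r + s) + (r + s) * (σ r + σ s) - ((r + σ r) * r + r * σ r)
          - ((s + σ s) * s + s * σ s)) := by noncomm_ring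
    _ = 0 := by rw [← h, ← D.sq_eq hr, ← D.sq_eq hs, sub_self]

theorem trace_smul {f r : E} (hf : f ∈ F) (hr : r ∈ R) : f * r + σ (f * r) = f * (r + σ r) := by
  rw [D.σmul f (D.le hf) r hr, D.σF f hf, ← (D.central f hf _ (D.σR r hr)).eq, mul_add]

theorem trace_comm {r s : E} (hr : r ∈ R) (hs : s ∈ R) :
    r * s + σ (r * s) = s * r + σ (s * r) := by
  rw [D.σmul r hr s hs, D.σmul s hs r hr, D.sigma_eq r, D.sigma_eq s]
  set a := r + σ r with ha
  set b := s + σ s with hb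
  have hab : b * a = a * b := (D.central b (D.trace s hs) a (D.le (D.trace r hr))).eq
  have har : r * b = b * r := (D.central b (D.trace s hs) r hr).eq.symm
  have has : s * a = a * s := (D.central a (D.trace r hr) s hs).eq.symm
  simp only [add_mul, mul_add, hab, har, has]
  abel

theorem trace_one : (1 : E) + σ 1 = 0 := by rw [D.σF 1 (one_mem F), D.char]

/-- For an idempotent of trace one, `iRi = Fi`. -/
theorem mem_scalar_of_idem {i x : E} (hi : i ∈ R) (hii : i * i = i) (hti : i + σ i = 1) (hx : x ∈ R)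
    (hix : i * x = x) (hxi : x * i = x) : ∃ c ∈ F, x = c * i := by
  have h := D.polar hi hx
  rw [hix, hxi, D.char, hti, one_mul] at h
  set t := x + σ x
  set B := i * σ x + σ (i * σ x)
  refine ⟨t + B, add_mem (D.trace x hx) (D.trace _ (mul_mem hi (D.σR x hx))), ?_⟩
  have hx' : x = t * i + B := D.eq_of_add_eq_zero (by rw [← add_assoc]; exact h.symm)
  calc x = x * i := hxi.symm
    _ = (t * i + B) * i := by rw [← hx']
    _ = (t + B) * i := by rw [add_mul (t * i) B i, mul_assoc t i i, hii, ← add_mul t B i]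

omit D in
/-- Matrix units adapted to a nilpotent element `n`. -/
structure Frame (R F : Subring E) (e f n m : E) : Prop where
  eR : e ∈ R
  fR : f ∈ R
  nR : n ∈ R
  mR : m ∈ R
  one : e + f = 1
  ee : e * e = e
  ff : f * f = f
  ef : e * f = 0
  fe : f * e = 0
  en : e * n = n
  ne : n * e = 0
  nf : n * f = n
  fn : f * n = 0
  nn : n * n = 0
  em : e * m = 0
  me : m * e = m
  mf : m * f = 0
  fm : f * m = m
  mm : m * m = 0
  nm : n * m = e
  mn : m * n = f
  coord : ∀ r ∈ R, ∃ α ∈ F, ∃ β ∈ F, ∃ γ ∈ F, ∃ δ ∈ F, r = α * e + β * f + γ * n + δ * m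

theorem exists_frame {n : E} (hn : n ∈ R) (hn0 : n ≠ 0) (hnn : n * n = 0) :
    ∃ e f m, Frame R F e f n m := by
  have htn : n + σ n = 0 := by
    by_contra h
    obtain ⟨g, hg, hgt⟩ := D.inv _ (D.trace n hn) h
    have h1 := D.sq_eq hn
    rw [hnn] at h1
    have hN : n * σ n = (n + σ n) * n := (D.eq_of_add_eq_zero h1.symm).symm
    have hnF : n ∈ F := by
      have h2 : g * (n * σ n) = n := by rw [hN, ← mul_assoc, hgt, one_mul]
      exact h2 ▸ mul_mem hg (D.norm n hn)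
    obtain ⟨g', hg', hgn⟩ := D.inv n hnF hn0
    refine hn0 ?_
    calc n = g' * n * n := by rw [hgn, one_mul]
      _ = 0 := by rw [mul_assoc, hnn, mul_zero]
  obtain ⟨s0, hs0, hs0t⟩ := D.nondeg n hn hn0
  obtain ⟨l, hl, hlt⟩ := D.inv _ (D.trace _ (mul_mem hn hs0)) hs0t
  set s := l * s0
  have hs : s ∈ R := mul_mem (D.le hl) hs0
  have hns : n * s = l * (n * s0) := by
    simp only [s]
    rw [← mul_assoc, ← (D.central l hl n hn).eq, mul_assoc]
  have hts : n * s + σ (n * s) = 1 := by rw [hns, D.trace_smul hl (mul_mem hn hs0), hlt]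
  set b := s + σ s
  have hb : b ∈ F := D.trace s hs
  have hsn : s * n = b * n + 1 + n * s := by
    have h := D.polar hn hs
    rw [htn, zero_mul, zero_add] at h
    have h1 : n * σ s + σ (n * σ s) = 1 := by
      rw [D.sigma_eq s, mul_add, D.σadd _ (mul_mem hn (D.le hb)) _ (mul_mem hn hs), add_add_add_comm,
        hts, show n * b + σ (n * b) = 0 by
          rw [← (D.central b hb n hn).eq, D.trace_smul hb hn, htn, mul_zero], zero_add]
    rw [h1] at h
    calc s * n = n * s + (n * s + s * n) := (D.add_cancel_left' _ _).symm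
      _ = n * s + (b * n + 1) := by rw [h]
      _ = _ := by rw [add_comm]
  have hnbn : n * (b * n) = 0 := by rw [← mul_assoc, ← (D.central b hb n hn).eq, mul_assoc, hnn, mul_zero]
  set e := n * s
  have heR : e ∈ R := mul_mem hn hs
  have hne : n * e = 0 := by rw [← mul_assoc, hnn, zero_mul]
  have hen : e * n = n := by
    show n * s * n = n
    rw [mul_assoc, hsn, mul_add, mul_add, hnbn, ← mul_assoc, hnn, zero_mul, zero_add, add_zero, mul_one]
  have hee : e * e = e := by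
    show e * (n * s) = n * s
    rw [← mul_assoc, hen]
  set f := 1 + e
  have hfR : f ∈ R := add_mem (one_mem R) heR
  have hef : e * f = 0 := by rw [mul_add, mul_one, hee, D.char]
  have hfe : f * e = 0 := by rw [add_mul, one_mul, hee, D.char]
  have hff : f * f = f := by
    show (1 + e) * f = f
    rw [add_mul, one_mul, hef, add_zero]
  have hnf : n * f = n := by rw [mul_add, mul_one, hne, add_zero]
  have hfn : f * n = 0 := by rw [add_mul, one_mul, hen, D.char]
  set m := f * s * e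
  have hmR : m ∈ R := mul_mem (mul_mem hfR hs) heR
  have hnm : n * m = e := by
    show n * (f * s * e) = e
    rw [← mul_assoc n (f * s) e, ← mul_assoc n f s, hnf]
    exact hee
  have hmn : m * n = f := by
    show f * s * e * n = f
    rw [mul_assoc, hen, mul_assoc, hsn, mul_add, mul_add, mul_one, ← mul_assoc f b,
      ← (D.central b hb f hfR).eq, mul_assoc, hfn, mul_zero, zero_add, hfe, add_zero]
  have hem : e * m = 0 := by
    show e * (f * s * e) = 0
    rw [← mul_assoc e (f * s) e, ← mul_assoc e f s, hef, zero_mul, zero_mul]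
  have hme : m * e = m := by
    show f * s * e * e = f * s * e
    rw [mul_assoc, hee]
  have hfm : f * m = m := by
    show f * (f * s * e) = f * s * e
    rw [← mul_assoc f (f * s) e, ← mul_assoc f f s, hff]
  have hmf : m * f = 0 := by
    show f * s * e * f = 0
    rw [mul_assoc, hef, mul_zero]
  have hmm : m * m = 0 := by
    show f * s * e * m = 0
    rw [mul_assoc, hem, mul_zero]
  have hef1 : e + f = 1 := by
    show e + (1 + e) = 1
    rw [add_comm (1 : E) e]; exact D.add_cancel_left' e 1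
  have hte : e + σ e = 1 := hts
  have htf : f + σ f = 1 := by
    show 1 + e + σ (1 + e) = 1
    rw [D.σadd 1 (one_mem R) e heR, add_add_add_comm, D.trace_one, zero_add, hte]
  refine ⟨e, f, m, heR, hfR, hn, hmR, hef1, hee, hff, hef, hfe, hen, hne, hnf, hfn, hnn, hem, hme, hmf,
    hfm, hmm, hnm, hmn, fun r hr => ?_⟩
  obtain ⟨α, hα, hα'⟩ := D.mem_scalar_of_idem heR hee hte (mul_mem (mul_mem heR hr) heR)
    (x := e * r * e) (by simp only [← mul_assoc, hee]) (by rw [mul_assoc, hee])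
  obtain ⟨β, hβ, hβ'⟩ := D.mem_scalar_of_idem hfR hff htf (mul_mem (mul_mem hfR hr) hfR)
    (x := f * r * f) (by simp only [← mul_assoc, hff]) (by rw [mul_assoc, hff])
  obtain ⟨γ, hγ, hγ'⟩ := D.mem_scalar_of_idem heR hee hte (mul_mem (mul_mem (mul_mem heR hr) hfR) hmR)
    (x := e * r * f * m) (by simp only [← mul_assoc, hee]) (by rw [mul_assoc, hme])
  obtain ⟨δ, hδ, hδ'⟩ := D.mem_scalar_of_idem hfR hff htf (mul_mem (mul_mem (mul_mem hfR hr) heR) hn)
    (x := f * r * e * n) (by simp only [← mul_assoc, hff]) (by rw [mul_assoc, hnf])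
  refine ⟨α, hα, β, hβ, γ, hγ, δ, hδ, ?_⟩
  have h1 : e * r * f = γ * n := by
    calc e * r * f = e * r * f * (m * n) := by rw [hmn, mul_assoc _ f f, hff]
      _ = e * r * f * m * n := by rw [← mul_assoc]
      _ = γ * n := by rw [hγ', mul_assoc, hen]
  have h2 : f * r * e = δ * m := by
    calc f * r * e = f * r * e * (n * m) := by rw [hnm, mul_assoc _ e e, hee]
      _ = f * r * e * n * m := by rw [← mul_assoc]
      _ = δ * m := by rw [hδ', mul_assoc, hfm]
  calc r = (e + f) * r * (e + f) := by rw [hef1, one_mul, mul_one]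
    _ = e * r * e + f * r * f + e * r * f + f * r * e := by simp only [add_mul, mul_add]; abel
    _ = _ := by rw [hα', hβ', h1, h2]

namespace Frame

variable {e f n m : E} (Fr : Frame R F e f n m)
include Fr

theorem smul_mul_smul {a b X Y : E} (hb : b ∈ F) (hX : X ∈ R) : (a * X) * (b * Y) = a * b * (X * Y) := by
  rw [mul_assoc a X, ← mul_assoc X b, ← (D.central b hb X hX).eq, mul_assoc b X, ← mul_assoc a b]

omit D in
theorem ne_zero (hn : n ≠ 0) : e ≠ 0 ∧ f ≠ 0 ∧ m ≠ 0 := by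
  refine ⟨fun h => hn ?_, fun h => hn ?_, fun h => hn ?_⟩
  · rw [← Fr.en, h, zero_mul]
  · rw [← Fr.nf, h, mul_zero]
  · rw [← Fr.nf, ← Fr.mn, h, zero_mul, mul_zero]

theorem eq_zero_of_smul {c x : E} (hc : c ∈ F) (hx : x ≠ 0) (h : c * x = 0) : c = 0 := by
  have _ := Fr.ee
  by_contra hc0
  obtain ⟨g, _, hgc⟩ := D.inv c hc hc0
  exact hx (by rw [← one_mul x, ← hgc, mul_assoc, h, mul_zero])

theorem sq_coord {α β γ δ : E} (hα : α ∈ F) (hβ : β ∈ F) (hγ : γ ∈ F) (hδ : δ ∈ F) :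
    (α * e + β * f + γ * n + δ * m) * (α * e + β * f + γ * n + δ * m)
      = (α * α + γ * δ) * e + (β * β + γ * δ) * f + (γ * (α + β)) * n + (δ * (α + β)) * m := by
  have c : ∀ a ∈ F, ∀ b ∈ F, a * b = b * a := fun a ha b hb => (D.central a ha b (D.le hb)).eq
  simp only [add_mul, mul_add, smul_mul_smul D Fr hα Fr.eR, smul_mul_smul D Fr hβ Fr.eR,
    smul_mul_smul D Fr hγ Fr.eR, smul_mul_smul D Fr hδ Fr.eR, smul_mul_smul D Fr hα Fr.fR,
    smul_mul_smul D Fr hβ Fr.fR, smul_mul_smul D Fr hγ Fr.fR, smul_mul_smul D Fr hδ Fr.fR,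
    smul_mul_smul D Fr hα Fr.nR, smul_mul_smul D Fr hβ Fr.nR, smul_mul_smul D Fr hγ Fr.nR,
    smul_mul_smul D Fr hδ Fr.nR, smul_mul_smul D Fr hα Fr.mR, smul_mul_smul D Fr hβ Fr.mR,
    smul_mul_smul D Fr hγ Fr.mR, smul_mul_smul D Fr hδ Fr.mR, Fr.ee, Fr.ff, Fr.ef, Fr.fe, Fr.en, Fr.ne,
    Fr.nf, Fr.fn, Fr.nn, Fr.em, Fr.me, Fr.mf, Fr.fm, Fr.mm, Fr.nm, Fr.mn, mul_zero, add_zero, zero_add]
  rw [c δ hδ γ hγ, c γ hγ α hα, c δ hδ β hβ, c δ hδ α hα, c γ hγ β hβ]
  abel

omit D in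
theorem eRe_coord {α β γ δ : E} (hα : α ∈ F) (hβ : β ∈ F) (hγ : γ ∈ F) (hδ : δ ∈ F)
    (hc : ∀ a ∈ F, ∀ r ∈ R, Commute a r) :
    e * (α * e + β * f + γ * n + δ * m) = α * e + γ * n ∧
      f * (α * e + β * f + γ * n + δ * m) = β * f + δ * m := by
  have h : ∀ a ∈ F, ∀ X ∈ R, ∀ Y, X * (a * Y) = a * (X * Y) := fun a ha X hX Y => by
    rw [← mul_assoc, ← (hc a ha X hX).eq, mul_assoc]
  constructor <;>
  simp only [mul_add, h α hα _ Fr.eR, h β hβ _ Fr.eR, h γ hγ _ Fr.eR, h δ hδ _ Fr.eR,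
    h α hα _ Fr.fR, h β hβ _ Fr.fR, h γ hγ _ Fr.fR, h δ hδ _ Fr.fR, Fr.ee, Fr.ff, Fr.ef, Fr.fe,
    Fr.en, Fr.fn, Fr.em, Fr.fm, mul_zero, add_zero, zero_add]

end Frame

theorem card_field_even [Finite E] [Nontrivial E] : 2 ∣ Nat.card F := by
  have h : addOrderOf (1 : F) = 2 := addOrderOf_eq_prime (Subtype.ext (by
    rw [two_nsmul]; exact D.char 1)) one_ne_zero
  exact h ▸ addOrderOf_dvd_natCard (1 : F)

theorem exists_sqrt [Finite E] {c : E} (hc : c ∈ F) : ∃ a ∈ F, a * a = c := by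
  have hinj : Function.Injective (fun a : F => a * a) := by
    intro a b h
    have h' : (a : E) * a = b * b := congrArg Subtype.val h
    have h0 : ((a : E) + b) * (a + b) = 0 := by
      rw [add_mul, mul_add, mul_add, ← (D.central a a.2 b (D.le b.2)).eq, h', add_assoc, ← add_assoc
        ((a : E) * b), D.char, zero_add, D.char]
    refine Subtype.ext (D.eq_of_add_eq_zero ?_)
    by_contra hne
    obtain ⟨g, _, hg⟩ := D.inv _ (add_mem a.2 b.2) hne
    exact hne (by rw [← one_mul ((a : E) + b), ← hg, mul_assoc, h0, mul_zero])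
  obtain ⟨a, ha⟩ := (Finite.surjective_of_injective hinj) ⟨c, hc⟩
  exact ⟨a, a.2, congrArg Subtype.val ha⟩

theorem two_dvd_card_squareZero [Finite E] [Nontrivial E] {n : E} (hn : n ∈ R) (hn0 : n ≠ 0)
    (hnn : n * n = 0) : 2 ∣ Nat.card {x : E // x ∈ R ∧ x * x = 0} := by
  obtain ⟨e, f, m, Fr⟩ := D.exists_frame hn hn0 hnn
  obtain ⟨he0, hf0, hm0⟩ := Fr.ne_zero hn0
  choose sq hsqF hsq using fun p : F × F => D.exists_sqrt (mul_mem p.1.2 p.2.2)
  let φ : F × F → {x : E // x ∈ R ∧ x * x = 0} := fun p =>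
    ⟨sq p * e + sq p * f + (p.1 : E) * n + (p.2 : E) * m,
      add_mem (add_mem (add_mem (mul_mem (D.le (hsqF p)) Fr.eR) (mul_mem (D.le (hsqF p)) Fr.fR))
        (mul_mem (D.le p.1.2) Fr.nR)) (mul_mem (D.le p.2.2) Fr.mR),
      by rw [Frame.sq_coord D Fr (hsqF p) (hsqF p) p.1.2 p.2.2, hsq, D.char, D.char]; simp⟩
  have hsurj : Function.Surjective φ := by
    rintro ⟨x, hx, hxx⟩
    obtain ⟨α, hα, β, hβ, γ, hγ, δ, hδ, rfl⟩ := Fr.coord x hx
    rw [Frame.sq_coord D Fr hα hβ hγ hδ] at hxx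
    have he := (Frame.eRe_coord Fr (add_mem (mul_mem hα hα) (mul_mem hγ hδ))
      (add_mem (mul_mem hβ hβ) (mul_mem hγ hδ)) (mul_mem hγ (add_mem hα hβ))
      (mul_mem hδ (add_mem hα hβ)) D.central)
    rw [hxx, mul_zero, mul_zero] at he
    have hA : α * α + γ * δ = 0 := by
      refine Frame.eq_zero_of_smul D Fr (add_mem (mul_mem hα hα) (mul_mem hγ hδ)) he0 ?_
      have := congrArg (· * e) he.1
      simpa [add_mul, mul_assoc, Fr.ee, Fr.ne] using this.symm
    have hB : β * β + γ * δ = 0 := by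
      refine Frame.eq_zero_of_smul D Fr (add_mem (mul_mem hβ hβ) (mul_mem hγ hδ)) hf0 ?_
      have := congrArg (· * f) he.2
      simpa [add_mul, mul_assoc, Fr.ff, Fr.mf] using this.symm
    have h := hsq (⟨γ, hγ⟩, ⟨δ, hδ⟩)
    have hroot : ∀ a ∈ F, a * a + γ * δ = 0 → a = sq (⟨γ, hγ⟩, ⟨δ, hδ⟩) := by
      intro a ha ha0
      set b := sq (⟨γ, hγ⟩, ⟨δ, hδ⟩)
      refine D.eq_of_add_eq_zero ?_
      by_contra hne
      obtain ⟨g, _, hg⟩ := D.inv _ (add_mem ha (hsqF _)) hne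
      refine hne ?_
      have h0 : (a + b) * (a + b) = 0 := by
        rw [add_mul, mul_add, mul_add, ← (D.central a ha b (D.le (hsqF _))).eq, h]
        calc a * a + a * b + (a * b + γ * δ) = (a * a + γ * δ) + (a * b + a * b) := by abel
          _ = 0 := by rw [ha0, D.char, add_zero]
      rw [← one_mul (a + b), ← hg, mul_assoc, h0, mul_zero]
    refine ⟨(⟨γ, hγ⟩, ⟨δ, hδ⟩), Subtype.ext ?_⟩
    show sq _ * e + sq _ * f + γ * n + δ * m = α * e + β * f + γ * n + δ * m
    rw [hroot α hα hA, hroot β hβ hB]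
  have hinj : Function.Injective φ := by
    intro p q h
    have h' : sq p * e + sq p * f + (p.1 : E) * n + (p.2 : E) * m
        = sq q * e + sq q * f + (q.1 : E) * n + (q.2 : E) * m := congrArg Subtype.val h
    have hp := Frame.eRe_coord Fr (hsqF p) (hsqF p) p.1.2 p.2.2 D.central
    have hq := Frame.eRe_coord Fr (hsqF q) (hsqF q) q.1.2 q.2.2 D.central
    rw [h'] at hp
    have key : ∀ a ∈ F, ∀ b ∈ F, ∀ x ≠ (0 : E), a * x = b * x → a = b := fun a ha b hb x hx hab =>
      D.eq_of_add_eq_zero (Frame.eq_zero_of_smul D Fr (add_mem ha hb) hx (by rw [add_mul, hab, D.char]))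
    refine Prod.ext (Subtype.ext (key _ p.1.2 _ q.1.2 n hn0 ?_)) (Subtype.ext (key _ p.2.2 _ q.2.2 m hm0 ?_))
    · have := congrArg (· * f) (hp.1.symm.trans hq.1)
      simpa [add_mul, mul_assoc, Fr.ef, Fr.nf] using this
    · have := congrArg (· * e) (hp.2.symm.trans hq.2)
      simpa [add_mul, mul_assoc, Fr.fe, Fr.me] using this
  rw [← Nat.card_congr (Equiv.ofBijective φ ⟨hinj, hsurj⟩), Nat.card_prod]
  exact dvd_mul_of_dvd_left D.card_field_even _

theorem exists_squareZero [Finite E] [Nontrivial E] (hnc : ∃ r ∈ R, ∃ s ∈ R, r * s ≠ s * r) :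
    ∃ n ∈ R, n ≠ 0 ∧ n * n = 0 := by
  by_cases hdom : ∀ r ∈ R, r ≠ 0 → r * σ r ≠ 0
  · exfalso
    have : NoZeroDivisors R := ⟨fun {a b} h => by
      refine or_iff_not_imp_left.2 fun ha => ?_
      have ha' : (a : E) ≠ 0 := fun h0 => ha (Subtype.ext h0)
      obtain ⟨g, hg, hgN⟩ := D.inv _ (D.norm a a.2) (hdom a a.2 ha')
      have hsw : (a : E) * σ a = σ a * a := by
        have h := (D.central _ (D.trace a a.2) a a.2).eq
        rw [add_mul, mul_add] at h
        exact (add_left_cancel h).symm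
      refine Subtype.ext ?_
      show (b : E) = 0
      have hab : (a : E) * b = 0 := congrArg Subtype.val h
      rw [← one_mul (b : E), ← hgN, hsw, mul_assoc, mul_assoc, hab, mul_zero, mul_zero]⟩
    have : IsDomain R := NoZeroDivisors.to_isDomain R
    obtain ⟨r, hr, s, hs, hne⟩ := hnc
    exact hne (congrArg Subtype.val ((Finite.isDomain_to_isField R).mul_comm ⟨r, hr⟩ ⟨s, hs⟩))
  push Not at hdom
  obtain ⟨r, hr, hr0, hN⟩ := hdom
  by_cases htr : r + σ r = 0
  · exact ⟨r, hr, hr0, by rw [D.sq_eq hr, htr, hN, zero_mul, add_zero]⟩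
  -- an idempotent of trace one
  obtain ⟨g, hg, hgt⟩ := D.inv _ (D.trace r hr) htr
  set e := g * r
  have heR : e ∈ R := mul_mem (D.le hg) hr
  have hte : e + σ e = 1 := by rw [D.trace_smul hg hr, hgt]
  have hee : e * e = e := by
    have hNe : e * σ e = 0 := by
      rw [D.σmul g (D.le hg) r hr, D.σF g hg, ← mul_assoc, mul_assoc g, hN, mul_zero, zero_mul]
    rw [D.sq_eq heR, hte, hNe, one_mul, add_zero]
  set f := 1 + e
  have hfR : f ∈ R := add_mem (one_mem R) heR
  have hef : e * f = 0 := by rw [mul_add, mul_one, hee, D.char]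
  have hfe : f * e = 0 := by rw [add_mul, one_mul, hee, D.char]
  by_contra hno
  push Not at hno
  have hz : ∀ x ∈ R, e * x * f = 0 ∧ f * x * e = 0 := by
    intro x hx
    constructor
    · by_contra h
      refine hno _ (mul_mem (mul_mem heR hx) hfR) h ?_
      rw [show e * x * f * (e * x * f) = e * x * (f * e) * x * f by simp only [mul_assoc], hfe, mul_zero,
        zero_mul, zero_mul]
    · by_contra h
      refine hno _ (mul_mem (mul_mem hfR hx) heR) h ?_
      rw [show f * x * e * (f * x * e) = f * x * (e * f) * x * e by simp only [mul_assoc], hef, mul_zero,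
        zero_mul, zero_mul]
  have hff : f * f = f := by
    show (1 + e) * f = f
    rw [add_mul, one_mul, hef, add_zero]
  have htf : f + σ f = 1 := by
    show 1 + e + σ (1 + e) = 1
    rw [D.σadd 1 (one_mem R) e heR, add_add_add_comm, D.trace_one, zero_add, hte]
  have hcoord : ∀ x ∈ R, ∃ α ∈ F, ∃ β ∈ F, x = α * e + β * f := by
    intro x hx
    obtain ⟨α, hα, hα'⟩ := D.mem_scalar_of_idem heR hee hte (mul_mem (mul_mem heR hx) heR)
      (x := e * x * e) (by simp only [← mul_assoc, hee]) (by rw [mul_assoc, hee])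
    obtain ⟨β, hβ, hβ'⟩ := D.mem_scalar_of_idem hfR hff htf (mul_mem (mul_mem hfR hx) hfR)
      (x := f * x * f) (by simp only [← mul_assoc, hff]) (by rw [mul_assoc, hff])
    refine ⟨α, hα, β, hβ, ?_⟩
    calc x = (e + f) * x * (e + f) := by
          rw [show e + f = 1 by show e + (1 + e) = 1; rw [add_comm (1 : E) e]; exact D.add_cancel_left' e 1,
            one_mul, mul_one]
      _ = e * x * e + f * x * f + e * x * f + f * x * e := by simp only [add_mul, mul_add]; abel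
      _ = _ := by rw [(hz x hx).1, (hz x hx).2, add_zero, add_zero, hα', hβ']
  obtain ⟨r', hr', s, hs, hne⟩ := hnc
  obtain ⟨α, hα, β, hβ, rfl⟩ := hcoord r' hr'
  obtain ⟨α', hα', β', hβ', rfl⟩ := hcoord s hs
  have c : ∀ a ∈ F, ∀ X ∈ R, ∀ b ∈ F, ∀ Y, (a * X) * (b * Y) = a * b * (X * Y) :=
    fun a _ X hX b hb Y => by
      rw [mul_assoc a X, ← mul_assoc X b, ← (D.central b hb X hX).eq, mul_assoc b X, ← mul_assoc a b]
  refine hne ?_
  simp only [add_mul, mul_add, c _ hα _ heR _ hα', c _ hα' _ heR _ hα, c _ hβ _ hfR _ hα',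
    c _ hα' _ heR _ hβ, c _ hα _ heR _ hβ', c _ hβ' _ hfR _ hα, c _ hβ _ hfR _ hβ', c _ hβ' _ hfR _ hβ,
    hef, hfe, mul_zero, add_zero, zero_add, (D.central α hα α' (D.le hα')).eq,
    (D.central β hβ β' (D.le hβ')).eq]

/-- A faithful 2-group of `F`-linear automorphisms of `R` has order at most `|F|`. -/
theorem card_autGroup_le [Finite E] [Nontrivial E] (hnc : ∃ r ∈ R, ∃ s ∈ R, r * s ≠ s * r)
    (Γ : Subgroup Eˣ) (hΓ : IsPGroup 2 Γ) (hΓR : ∀ c ∈ Γ, ∀ r ∈ R, (c : E) * r * ↑c⁻¹ ∈ R)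
    (hΓF : ∀ c ∈ Γ, ∀ x ∈ F, Commute (c : E) x)
    (hfaith : ∀ c ∈ Γ, (∀ r ∈ R, Commute (c : E) r) → c = 1) : Nat.card Γ ≤ Nat.card F := by
  obtain ⟨n₁, hn₁, hn₁0, hn₁n⟩ := D.exists_squareZero hnc
  have hinv : ∀ (c : Eˣ) (y : E), (↑c⁻¹ : E) * ((c : E) * y) = y := fun c y => c.inv_mul_cancel_left y
  let act : MulAction Γ {x : E // x ∈ R ∧ x * x = 0} :=
    { smul := fun c x => ⟨((c : Eˣ) : E) * x.1 * ↑(c : Eˣ)⁻¹, hΓR c c.2 x.1 x.2.1, by
        rw [show ((c : Eˣ) : E) * x.1 * ↑(c : Eˣ)⁻¹ * (((c : Eˣ) : E) * x.1 * ↑(c : Eˣ)⁻¹)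
          = ((c : Eˣ) : E) * (x.1 * ((↑(c : Eˣ)⁻¹ : E) * (((c : Eˣ) : E) * (x.1 * ↑(c : Eˣ)⁻¹))))
          by simp only [mul_assoc], hinv, ← mul_assoc x.1 x.1, x.2.2, zero_mul, mul_zero]⟩
      one_smul := fun x => Subtype.ext (by
        show ((1 : Eˣ) : E) * x.1 * ↑(1 : Eˣ)⁻¹ = x.1
        simp)
      mul_smul := fun c d x => Subtype.ext (by
        show (((c : Eˣ) * d : Eˣ) : E) * x.1 * ↑((c : Eˣ) * d)⁻¹
          = ((c : Eˣ) : E) * (((d : Eˣ) : E) * x.1 * ↑(d : Eˣ)⁻¹) * ↑(c : Eˣ)⁻¹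
        rw [mul_inv_rev, Units.val_mul, Units.val_mul]; simp only [mul_assoc]) }
  have : Fact (Nat.Prime 2) := ⟨Nat.prime_two⟩
  have h0 : (⟨0, zero_mem R, zero_mul 0⟩ : {x : E // x ∈ R ∧ x * x = 0}) ∈ MulAction.fixedPoints Γ _ :=
    fun c => Subtype.ext (by show ((c : Eˣ) : E) * 0 * _ = 0; simp)
  obtain ⟨⟨n, hn, hnn⟩, hfix, hne⟩ :=
    hΓ.exists_fixed_point_of_prime_dvd_card_of_fixed_point _
      (D.two_dvd_card_squareZero hn₁ hn₁0 hn₁n) h0
  have hn0 : n ≠ 0 := fun h => hne (Subtype.ext h.symm)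
  obtain ⟨e, f, m, Fr⟩ := D.exists_frame hn hn0 hnn
  obtain ⟨he0, hf0, hm0⟩ := Fr.ne_zero hn0
  have hcn : ∀ c ∈ Γ, Commute (c : E) n := by
    intro c hc
    have h := congrArg Subtype.val (hfix ⟨c, hc⟩)
    change (c : E) * n * ↑c⁻¹ = n at h
    show _ = _
    calc (c : E) * n = (c : E) * n * ↑c⁻¹ * c := (c.inv_mul_cancel_right _).symm
      _ = n * c := by rw [h]
  have himg : ∀ c ∈ Γ, ∃ γ : F, (c : E) * e * ↑c⁻¹ = e + γ * n := by
    intro c hc
    set e' := (c : E) * e * ↑c⁻¹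
    have h1 : e' * n = n := by
      show (c : E) * e * ↑c⁻¹ * n = n
      rw [mul_assoc _ _ n, ((hcn c hc).units_inv_left).eq, ← mul_assoc, mul_assoc (c : E) e n, Fr.en,
        (hcn c hc).eq, c.mul_inv_cancel_right]
    have h2 : n * e' = 0 := by
      show n * ((c : E) * e * ↑c⁻¹) = 0
      rw [← mul_assoc, ← mul_assoc, ← (hcn c hc).eq, mul_assoc (c : E) n e, Fr.ne, mul_zero, zero_mul]
    obtain ⟨α, hα, β, hβ, γ, hγ, δ, hδ, he'⟩ := Fr.coord e' (hΓR c hc e Fr.eR)
    rw [he'] at h1 h2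
    simp only [add_mul, mul_assoc, Fr.en, Fr.fn, Fr.nn, Fr.mn, mul_zero, add_zero] at h1
    have hb : ∀ x ∈ F, ∀ Y, n * (x * Y) = x * (n * Y) := fun x hx Y => by
      rw [← mul_assoc, ← (D.central x hx n hn).eq, mul_assoc]
    simp only [mul_add, hb α hα, hb β hβ, hb γ hγ, hb δ hδ, Fr.ne, Fr.nf, Fr.nn, Fr.nm, mul_zero,
      zero_add, add_zero] at h2
    have hδ0 : δ = 0 := by
      have h3 := congrArg (f * ·) h1
      simp only [mul_add, ← mul_assoc f, ← (D.central α hα f Fr.fR).eq, ← (D.central δ hδ f Fr.fR).eq,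
        mul_assoc α, mul_assoc δ, Fr.fn, Fr.ff, mul_zero, zero_add] at h3
      exact Frame.eq_zero_of_smul D Fr hδ hf0 h3
    have hα1 : α = 1 := by
      rw [hδ0, zero_mul, add_zero] at h1
      refine D.eq_of_add_eq_zero (Frame.eq_zero_of_smul D Fr (add_mem hα (one_mem F)) hn0 ?_)
      rw [add_mul, h1, one_mul, D.char]
    have hβ0 : β = 0 := by
      rw [hδ0, zero_mul, add_zero] at h2
      exact Frame.eq_zero_of_smul D Fr hβ hn0 h2
    refine ⟨⟨γ, hγ⟩, ?_⟩
    rw [he', hα1, hβ0, hδ0, one_mul, zero_mul, zero_mul, add_zero, add_zero]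
  choose g hg using fun c : Γ => himg c c.2
  refine Nat.card_le_card_of_injective g fun c d hcd => ?_
  have heq : ((c : Eˣ) : E) * e * ↑(c : Eˣ)⁻¹ = ((d : Eˣ) : E) * e * ↑(d : Eˣ)⁻¹ := by
    rw [hg c, hg d, hcd]
  set u : Eˣ := (c : Eˣ)⁻¹ * (d : Eˣ) with hu
  have huΓ : u ∈ Γ := mul_mem (inv_mem c.2) d.2
  have hue : Commute (u : E) e := by
    show _ = _
    have h3 := congrArg (fun y => (↑(c : Eˣ)⁻¹ : E) * y * ((d : Eˣ) : E)) heq
    simp only [mul_assoc] at h3
    rw [hinv, Units.inv_mul, mul_one] at h3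
    rw [hu, Units.val_mul, mul_assoc]
    exact h3.symm
  have hun : Commute (u : E) n := hcn u huΓ
  have huf : Commute (u : E) f := by
    rw [show f = 1 + e by rw [← Fr.one, add_comm e f, add_assoc, D.char, add_zero]]
    exact (Commute.one_right _).add_right hue
  have hum : Commute (u : E) m := by
    set x := (u : E) * m * ↑u⁻¹ with hx
    have hxe : x * e = x := by
      rw [hx, mul_assoc, hue.units_inv_left.eq, ← mul_assoc, mul_assoc (u : E) m e, Fr.me]
    have hfx : f * x = x := by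
      rw [hx, ← mul_assoc, ← mul_assoc, ← huf.eq, mul_assoc (u : E) f m, Fr.fm]
    have hnx : n * x = e := by
      rw [hx, ← mul_assoc, ← mul_assoc, ← hun.eq, mul_assoc (u : E) n m, Fr.nm, hue.eq,
        u.mul_inv_cancel_right]
    obtain ⟨α, hα, β, hβ, γ, hγ, δ, hδ, hx'⟩ := Fr.coord x (hΓR u huΓ m Fr.mR)
    have h4 := (Frame.eRe_coord Fr hα hβ hγ hδ D.central).2
    rw [← hx', hfx] at h4
    have h5 : x = δ * m := by
      have h6 := congrArg (· * e) h4
      simpa [add_mul, mul_assoc, hxe, Fr.fe, Fr.me] using h6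
    have hδ1 : δ = 1 := by
      rw [h5, ← mul_assoc, ← (D.central δ hδ n hn).eq, mul_assoc, Fr.nm] at hnx
      refine D.eq_of_add_eq_zero (Frame.eq_zero_of_smul D Fr (add_mem hδ (one_mem F)) he0 ?_)
      rw [add_mul, hnx, one_mul, D.char]
    rw [hδ1, one_mul] at h5
    show _ = _
    calc (u : E) * m = x * u := (u.inv_mul_cancel_right _).symm
      _ = m * u := by rw [h5]
  have hone : u = 1 := hfaith u huΓ fun r hr => by
    obtain ⟨α, hα, β, hβ, γ, hγ, δ, hδ, rfl⟩ := Fr.coord r hr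
    exact ((((hΓF u huΓ α hα).mul_right hue).add_right ((hΓF u huΓ β hβ).mul_right huf)).add_right
      ((hΓF u huΓ γ hγ).mul_right hun)).add_right ((hΓF u huΓ δ hδ).mul_right hum)
  exact Subtype.ext (inv_mul_eq_one.1 hone)

end QuadData

end CfsgLib.LocalEven.PGV
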