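import Cfsg.Agent.Lib.LocalEven.PGV.Two
import Cfsg.Agent.Lib.LocalEven.PGV.QuadRing

/-!
The last case of the P(G,V) theorem at the prime two: an irreducible plain offender generated by one
mover and the normaliser of the component.
-/

namespace CfsgLib.LocalEven.PGV

open Subgroup
open scoped commutatorElement

variable {G V : Type*} [Group G] [AddCommGroup V] [Finite V] [Module (ZMod 2) V]
  (ρ : Representation (ZMod 2) G V) {A K : Subgroup G}

omit [Finite V] in
theorem end_add_self (x : Module.End (ZMod 2) V) : x + x = 0 := by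
  rw [← two_smul (ZMod 2) x, show (2 : ZMod 2) = 0 by decide, zero_smul]

omit [Finite V] in
theorem exists_common_kernel [Nontrivial V] (s : Finset (Module.End (ZMod 2) V)) :
    (∀ x ∈ s, x * x = 0) → (∀ x ∈ s, ∀ y ∈ s, Commute x y) → ∃ v : V, v ≠ 0 ∧ ∀ x ∈ s, x v = 0 := by
  classical
  induction s using Finset.induction with
  | empty =>
    intro _ _
    obtain ⟨v, hv⟩ := exists_ne (0 : V)
    exact ⟨v, hv, by simp⟩
  | insert j s _ ih =>
    intro hsq hc
    obtain ⟨v, hv, hvs⟩ := ih (fun x hx => hsq x (Finset.mem_insert_of_mem hx))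
      (fun x hx y hy => hc x (Finset.mem_insert_of_mem hx) y (Finset.mem_insert_of_mem hy))
    by_cases hj : j v = 0
    · refine ⟨v, hv, fun x hx => ?_⟩
      rcases Finset.mem_insert.1 hx with rfl | hx
      · exact hj
      · exact hvs x hx
    · refine ⟨j v, hj, fun x hx => ?_⟩
      rcases Finset.mem_insert.1 hx with rfl | hx
      · exact LinearMap.congr_fun (hsq x (Finset.mem_insert_self x s)) v
      · show (x * j) v = 0
        rw [(hc x (Finset.mem_insert_of_mem hx) j (Finset.mem_insert_self j s)).eq, Module.End.mul_apply,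
          hvs x hx, map_zero]

omit [Finite V] in
/-- The pairs `(ρ u, ρ u⁻¹)` and their sums. -/
def pairs (K : Subgroup G) : AddSubgroup (Module.End (ZMod 2) V × Module.End (ZMod 2) V) :=
  AddSubgroup.closure {x | ∃ u ∈ K, x = (ρ u, ρ u⁻¹)}

omit [Finite V] in
theorem pairs_mem {u : G} (hu : u ∈ K) : (ρ u, ρ u⁻¹) ∈ pairs ρ K :=
  AddSubgroup.subset_closure ⟨u, hu, rfl⟩

omit [Finite V] in
theorem pairs_symm {x y : Module.End (ZMod 2) V} (h : (x, y) ∈ pairs ρ K) : (y, x) ∈ pairs ρ K := by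
  suffices h' : ∀ p ∈ pairs ρ K, (p.2, p.1) ∈ pairs ρ K from h' _ h
  intro p hp
  induction hp using AddSubgroup.closure_induction with
  | mem p hp =>
    obtain ⟨u, hu, rfl⟩ := hp
    simpa using pairs_mem ρ (inv_mem hu)
  | zero => exact zero_mem _
  | add p q _ _ hp hq => exact add_mem hp hq
  | neg p _ hp => exact neg_mem hp

omit [Finite V] in
theorem pairs_mul {x y x' y' : Module.End (ZMod 2) V} (h : (x, y) ∈ pairs ρ K) (h' : (x', y') ∈ pairs ρ K) :
    (x * x', y' * y) ∈ pairs ρ K := by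
  suffices hs : ∀ p ∈ pairs ρ K, ∀ q ∈ pairs ρ K, (p.1 * q.1, q.2 * p.2) ∈ pairs ρ K from hs _ h _ h'
  intro p hp q hq
  induction hp, hq using AddSubgroup.closure_induction₂ with
  | mem p q hp hq =>
    obtain ⟨u, hu, rfl⟩ := hp
    obtain ⟨v, hv, rfl⟩ := hq
    simpa using pairs_mem ρ (mul_mem hu hv)
  | zero_left q _ =>
    simp only [Prod.fst_zero, Prod.snd_zero, zero_mul, mul_zero]
    exact zero_mem _
  | zero_right p _ =>
    simp only [Prod.fst_zero, Prod.snd_zero, zero_mul, mul_zero]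
    exact zero_mem _
  | add_left p p' q _ _ _ hp hp' => simpa [add_mul, mul_add] using add_mem hp hp'
  | add_right q q' p _ _ _ hq hq' => simpa [add_mul, mul_add] using add_mem hq hq'
  | neg_left p q _ _ hp => simpa [neg_mul, mul_neg] using neg_mem hp
  | neg_right p q _ _ hp => simpa [neg_mul, mul_neg] using neg_mem hp

omit [Finite V] in
theorem pairs_trace_comm (hc : ∀ u ∈ K, ∀ v ∈ K, Commute (ρ v) (zOf ρ u))
    {x y x' y' : Module.End (ZMod 2) V} (h : (x, y) ∈ pairs ρ K) (h' : (x', y') ∈ pairs ρ K) :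
    x * x' + y' * y = x' * x + y * y' := by
  suffices hs : ∀ p ∈ pairs ρ K, ∀ q ∈ pairs ρ K, p.1 * q.1 + q.2 * p.2 = q.1 * p.1 + p.2 * q.2 from
    hs _ h _ h'
  intro p hp q hq
  induction hp, hq using AddSubgroup.closure_induction₂ with
  | mem p q hp hq =>
    obtain ⟨u, hu, rfl⟩ := hp
    obtain ⟨v, hv, rfl⟩ := hq
    show ρ u * ρ v + ρ v⁻¹ * ρ u⁻¹ = ρ v * ρ u + ρ u⁻¹ * ρ v⁻¹
    have e : zOf ρ (u * v) = zOf ρ (v * u) := by
      have h1 := rho_zOf_comm ρ (v * u) u
      rw [show u * (v * u) * u⁻¹ = u * v by group, (hc (v * u) (mul_mem hv hu) u hu).eq] at h1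
      have h2 := congrArg (· * ρ u⁻¹) h1
      simpa only [mul_assoc, rho_mul_inv, mul_one] using h2.symm
    simpa [zOf] using e
  | zero_left q _ => simp
  | zero_right p _ => simp
  | add_left p p' q _ _ _ hp hp' =>
    simp only [Prod.fst_add, Prod.snd_add, add_mul, mul_add]
    rw [add_add_add_comm, hp, hp', add_add_add_comm]
  | add_right q q' p _ _ _ hq hq' =>
    simp only [Prod.fst_add, Prod.snd_add, add_mul, mul_add]
    rw [add_add_add_comm, hq, hq', add_add_add_comm]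
  | neg_left p q _ _ hp => simp only [Prod.fst_neg, Prod.snd_neg, neg_mul, mul_neg, ← neg_add, hp]
  | neg_right p q _ _ hp => simp only [Prod.fst_neg, Prod.snd_neg, neg_mul, mul_neg, ← neg_add, hp]

omit [Finite V] in
theorem pairs_conj {c : G} (hc : c ∈ normalizer (K : Set G)) {x y : Module.End (ZMod 2) V}
    (h : (x, y) ∈ pairs ρ K) : (ρ c * x * ρ c⁻¹, ρ c * y * ρ c⁻¹) ∈ pairs ρ K := by
  suffices hs : ∀ p ∈ pairs ρ K, (ρ c * p.1 * ρ c⁻¹, ρ c * p.2 * ρ c⁻¹) ∈ pairs ρ K from hs _ h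
  intro p hp
  induction hp using AddSubgroup.closure_induction with
  | mem p hp =>
    obtain ⟨u, hu, rfl⟩ := hp
    have h1 := pairs_mem ρ ((mem_normalizer_iff.1 hc u).1 hu)
    rw [show (c * u * c⁻¹)⁻¹ = c * u⁻¹ * c⁻¹ by group] at h1
    simpa only [map_mul] using h1
  | zero =>
    simp only [Prod.fst_zero, Prod.snd_zero, zero_mul, mul_zero]
    exact zero_mem _
  | add p q _ _ hp hq => simpa [mul_add, add_mul] using add_mem hp hq
  | neg p _ hp => simpa [mul_neg, neg_mul] using neg_mem hp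

omit [Finite V] in
/-- Strict inclusions of subspaces over the field of scalars `F` multiply orders by `|F|`. -/
theorem card_field_mul_le [Finite V] (F : Subring (Module.End (ZMod 2) V))
    (hinv : ∀ f ∈ F, f ≠ 0 → ∃ g ∈ F, g * f = 1) {P Q : Submodule (ZMod 2) V} (hPQ : P < Q)
    (hP : ∀ f ∈ F, ∀ v ∈ P, f v ∈ P) (hQ : ∀ f ∈ F, ∀ v ∈ Q, f v ∈ Q) :
    Nat.card F * Nat.card P ≤ Nat.card Q := by
  obtain ⟨v, hvQ, hvP⟩ := SetLike.exists_of_lt hPQ
  rw [← Nat.card_prod]
  refine Nat.card_le_card_of_injective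
    (fun x : F × P => (⟨(x.1 : Module.End (ZMod 2) V) v + x.2, add_mem (hQ _ x.1.2 v hvQ) (hPQ.le x.2.2)⟩ : Q))
    fun x y h => ?_
  have h' : (x.1 : Module.End (ZMod 2) V) v + x.2 = (y.1 : Module.End (ZMod 2) V) v + y.2 :=
    congrArg Subtype.val h
  have hd : ((x.1 - y.1 : F) : Module.End (ZMod 2) V) v ∈ P := by
    rw [AddSubgroupClass.coe_sub, LinearMap.sub_apply, sub_eq_sub_iff_add_eq_add.2
      (by rw [h', add_comm] : (x.1 : Module.End (ZMod 2) V) v + x.2 = y.2 + (y.1 : Module.End (ZMod 2) V) v)]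
    exact sub_mem y.2.2 x.2.2
  have h1 : x.1 = y.1 := by
    by_contra hne
    obtain ⟨g, hg, hgd⟩ := hinv _ (x.1 - y.1 : F).2 fun h0 => hne (sub_eq_zero.1 (Subtype.ext h0))
    refine hvP ?_
    have := hP g hg _ hd
    rwa [← Module.End.mul_apply, hgd, Module.End.one_apply] at this
  rw [h1] at h'
  exact Prod.ext h1 (Subtype.ext (add_left_cancel h'))

/-- The last case: `A` is generated by a mover and the normaliser of `K`. -/
theorem eq_one_of_final (S : Setup 2 A K) {a b : G} (ha : a ∈ A) (hb : b ∈ A)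
    (han : a ∉ normalizer (K : Set G)) (hbn : b ∈ normalizer (K : Set G))
    (hnc : ¬ ∀ u ∈ K, Commute u b) (hquad : ∀ c ∈ A, (ρ c - 1) * (ρ b - 1) = 0)
    (hsplit : ∀ c ∈ A, c ∈ normalizer (K : Set G) ∨ a * c ∈ normalizer (K : Set G))
    (hirr : ∀ U : Submodule (ZMod 2) V, (∀ g ∈ A, ∀ v ∈ U, ρ g v ∈ U) → (∀ k ∈ K, ∀ v ∈ U, ρ k v ∈ U) →
      U = ⊥ ∨ U = ⊤)
    (hoff : Nat.card V ≤ Nat.card (A.map ρ.toHomUnits) * Nat.card {v : V // ∀ c ∈ A, ρ c v = v}) :
    ∀ u ∈ K, ρ u = 1 := by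
  by_contra hK1
  have htriv : (∀ u ∈ K, ρ u = 1) → False := hK1
  have h2 := end_add_self (V := V)
  have hA2 : ∀ x ∈ A, x * x = 1 := fun x hx => by rw [← pow_two]; exact S.exp x hx
  have hAinv : ∀ x ∈ A, x⁻¹ = x := fun x hx => inv_eq_of_mul_eq_one_right (hA2 x hx)
  have hVnt : Nontrivial V := by
    by_contra h
    rw [not_nontrivial_iff_subsingleton] at h
    exact htriv fun u _ => LinearMap.ext fun v => Subsingleton.elim _ _
  have hab := hquad a ha
  have hab' : (ρ b - 1) * (ρ a - 1) = 0 := by rw [(sub_one_comm ρ (S.comm b hb a ha)).eq, hab]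
  have hH : ∀ u ∈ K, u * (a * u * a⁻¹) ∈ fixT ρ a := fun u hu => by
    rw [← orbitProd_two]
    exact S.orbitProd_mem_of_normalizer ha han hbn (S.comm b hb a ha) hnc (fixT ρ a)
      (fun g hg h hh => fixT_conj ρ hg hh) (mem_fixT_of_quad ρ (S.comm b hb a ha) hab') u hu
  have hzK : ∀ u ∈ K, ∀ v ∈ K, Commute (ρ v) (zOf ρ u) := fun u hu v hv => by
    rw [zOf_conj_eq ρ (hA2 a ha) (hH u hu)]
    have h := S.commute_conj ha han v hv u hu
    exact (rho_commute ρ h).add_right (rho_commute ρ h.inv_right)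
  have hza : ∀ u ∈ K, Commute (ρ a) (zOf ρ u) := fun u hu => zOf_commute_mover ρ (hA2 a ha) (hH u hu)
  have hK1c : ∀ u ∈ K, ∀ v ∈ K, Commute (ρ (a * v * a⁻¹)) (zOf ρ u) := fun u hu v hv => by
    rw [map_mul, map_mul]
    refine ((hza u hu).mul_left (hzK u hu v hv)).mul_left ?_
    rw [hAinv a ha]; exact hza u hu
  have hmm : ∀ x y : G, ∀ v, ρ x (ρ y v) = ρ (x * y) v := fun x y v => by rw [map_mul]; rfl
  -- invariance criterion
  have hinvA : ∀ U : Submodule (ZMod 2) V, (∀ v ∈ U, ρ a v ∈ U) →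
      (∀ c ∈ A, c ∈ normalizer (K : Set G) → ∀ v ∈ U, ρ c v ∈ U) → ∀ g ∈ A, ∀ v ∈ U, ρ g v ∈ U := by
    intro U h1 h2' g hg v hv
    rcases hsplit g hg with h | h
    · exact h2' g hg h v hv
    · have := h1 _ (h2' _ (mul_mem ha hg) h v hv)
      rwa [← Module.End.mul_apply, ← map_mul, ← mul_assoc, hA2 a ha, one_mul] at this
  -- `z` commutes with `b`
  have hzb : ∀ u ∈ K, zOf ρ (b * u * b⁻¹) = zOf ρ u := by
    intro u hu
    have hbu : b * u * b⁻¹ ∈ K := (mem_normalizer_iff.1 hbn u).1 hu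
    set y := zOf ρ (b * u * b⁻¹) - zOf ρ u with hy
    have hyK : ∀ v ∈ K, Commute (ρ v) y := fun v hv => (hzK _ hbu v hv).sub_right (hzK u hu v hv)
    have hyK1 : ∀ v ∈ K, Commute (ρ (a * v * a⁻¹)) y := fun v hv =>
      (hK1c _ hbu v hv).sub_right (hK1c u hu v hv)
    have hbT : ρ b * (ρ a - 1) = ρ a - 1 := (mem_fixT_of_quad ρ (S.comm b hb a ha) hab').1
    have hyT : y * (ρ a - 1) = 0 := by
      have hzT : Commute (zOf ρ u) (ρ a - 1) := (hza u hu).symm.sub_right (Commute.one_right _)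
      calc y * (ρ a - 1) = y * ρ b * (ρ a - 1) := by rw [mul_assoc, hbT]
        _ = (ρ b * zOf ρ u) * (ρ a - 1) - zOf ρ u * (ρ b * (ρ a - 1)) := by
            rw [hy, sub_mul, sub_mul, ← rho_zOf_comm, mul_assoc (zOf ρ u)]
        _ = 0 := by rw [mul_assoc, hzT.eq, ← mul_assoc, hbT, hzT.eq, sub_self]
    let U : Submodule (ZMod 2) V := Submodule.span (ZMod 2)
      {v | ∃ k ∈ K, ∃ l ∈ K, ∃ w, v = ρ (k * (a * l * a⁻¹)) ((ρ a - 1) w)}
    have hgen : ∀ g, (∀ k ∈ K, ∀ l ∈ K, ∀ w, ρ g (ρ (k * (a * l * a⁻¹)) ((ρ a - 1) w)) ∈ U) →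
        ∀ v ∈ U, ρ g v ∈ U := by
      intro g h v hv
      refine (Submodule.span_le (p := U.comap (ρ g))).2 ?_ hv
      rintro _ ⟨k, hk, l, hl, w, rfl⟩
      exact h k hk l hl w
    have hU : U = ⊥ ∨ U = ⊤ := by
      refine hirr U (hinvA U (hgen a fun k hk l hl w => ?_) fun c hc hcn => hgen c fun k hk l hl w => ?_)
        fun g hg => hgen g fun k hk l hl w => ?_
      · refine Submodule.subset_span ⟨l, hl, k, hk, ρ a w, ?_⟩
        rw [show (ρ a - 1) (ρ a w) = ρ a ((ρ a - 1) w) by simp, hmm, hmm]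
        congr 2
        rw [(S.commute_conj ha han l hl k hk).eq, hAinv a ha]
        simp only [mul_assoc, hA2 a ha, mul_one]
      · refine Submodule.subset_span ⟨c * k * c⁻¹, (mem_normalizer_iff.1 hcn k).1 hk, c * l * c⁻¹,
          (mem_normalizer_iff.1 hcn l).1 hl, ρ c w, ?_⟩
        rw [show (ρ a - 1) (ρ c w) = ρ c ((ρ a - 1) w) by
            rw [← Module.End.mul_apply, ← Module.End.mul_apply,
              ((rho_commute ρ (S.comm a ha c hc)).sub_left (Commute.one_left _)).eq],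
          hmm, hmm]
        congr 2
        have hca : c * a = a * c := (S.comm c hc a ha).eq
        calc c * (k * (a * l * a⁻¹)) = c * k * ((a * l) * a⁻¹) := by group
          _ = (c * k * c⁻¹) * ((c * a) * l * (c * a)⁻¹) * c := by group
          _ = (c * k * c⁻¹) * ((a * c) * l * (a * c)⁻¹) * c := by rw [hca]
          _ = _ := by group
      · refine Submodule.subset_span ⟨g * k, mul_mem hg hk, l, hl, w, ?_⟩
        rw [← Module.End.mul_apply, ← map_mul, mul_assoc g k]
    rcases hU with hU | hU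
    · exfalso
      refine htriv (eq_one_of_commute ρ S.perfect fun u hu v hv => ?_)
      have hT : ρ a = 1 := sub_eq_zero.1 (LinearMap.ext fun w => by
        have hw : (ρ a - 1) w ∈ U := Submodule.subset_span ⟨1, one_mem K, 1, one_mem K, w, by simp⟩
        rw [hU, Submodule.mem_bot] at hw
        exact hw)
      have h := rho_commute ρ (S.commute_conj ha han u hu v hv)
      rwa [map_mul, map_mul, hT, one_mul, hAinv a ha, hT, mul_one] at h
    · refine sub_eq_zero.1 (LinearMap.ext fun v => ?_)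
      show y v = 0
      have hv : v ∈ U := hU ▸ Submodule.mem_top
      refine LinearMap.mem_ker.1 ((Submodule.span_le (p := LinearMap.ker y)).2 ?_ hv)
      rintro _ ⟨k, hk, l, hl, w, rfl⟩
      show y (ρ (k * (a * l * a⁻¹)) ((ρ a - 1) w)) = 0
      rw [← Module.End.mul_apply, ← Module.End.mul_apply, map_mul ρ k, ← mul_assoc y (ρ k), ← (hyK k hk).eq,
        mul_assoc (ρ k) y, ← (hyK1 l hl).eq, mul_assoc (ρ k), mul_assoc (ρ (a * l * a⁻¹)), hyT, mul_zero,
        mul_zero, LinearMap.zero_apply]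
  -- `z` commutes with all of `A`
  have hfix0 : ∀ v : V, (∀ k ∈ K, ρ k v = v ∧ ρ (a * k * a⁻¹) v = v) → v = 0 := by
    let W0 : Submodule (ZMod 2) V :=
      { carrier := {v | ∀ k ∈ K, ρ k v = v ∧ ρ (a * k * a⁻¹) v = v}
        add_mem' := fun hv hw k hk =>
          ⟨by rw [map_add, (hv k hk).1, (hw k hk).1], by rw [map_add, (hv k hk).2, (hw k hk).2]⟩
        zero_mem' := fun k _ => ⟨map_zero _, map_zero _⟩
        smul_mem' := fun r v hv k hk =>
          ⟨by rw [map_smul, (hv k hk).1], by rw [map_smul, (hv k hk).2]⟩ }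
    have hswap : ∀ x y : G, ∀ v, ρ x (ρ y v) = ρ (x * y) v := fun x y v => by rw [map_mul]; rfl
    have hW : ∀ g ∈ A, ∀ v ∈ W0, ρ g v ∈ W0 := by
      refine hinvA W0 (fun v hv k hk => ⟨?_, ?_⟩) fun c hc hcn v hv k hk => ⟨?_, ?_⟩
      · rw [hswap, show k * a = a * (a * k * a⁻¹) by
            rw [hAinv a ha]; simp only [← mul_assoc, hA2 a ha, one_mul], ← hswap, (hv k hk).2]
      · rw [hswap, show a * k * a⁻¹ * a = a * k by group, ← hswap, (hv k hk).1]
      · have hk' : c⁻¹ * k * c ∈ K := by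
          simpa using (mem_normalizer_iff.1 (show c⁻¹ ∈ normalizer (K : Set G) from inv_mem hcn) k).1 hk
        rw [hswap, show k * c = c * (c⁻¹ * k * c) by group, ← hswap, (hv _ hk').1]
      · have hk' : c⁻¹ * k * c ∈ K := by
          simpa using (mem_normalizer_iff.1 (show c⁻¹ ∈ normalizer (K : Set G) from inv_mem hcn) k).1 hk
        have hca : c * a = a * c := (S.comm c hc a ha).eq
        have e : a * k * a⁻¹ * c = c * (a * (c⁻¹ * k * c) * a⁻¹) := by
          calc a * k * a⁻¹ * c = ((a * c) * (c⁻¹ * k * c)) * (c⁻¹ * a⁻¹) * c := by group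
            _ = ((c * a) * (c⁻¹ * k * c)) * (a⁻¹ * c⁻¹) * c := by
                rw [← hca, (S.comm c hc a ha).inv_inv.eq]
            _ = _ := by group
        rw [hswap, e, ← hswap, (hv _ hk').2]
    rcases hirr W0 hW (fun k hk v hv => by rw [(hv k hk).1]; exact hv) with h | h
    · intro v hv
      have h' : v ∈ W0 := hv
      rwa [h, Submodule.mem_bot] at h'
    · exact absurd (fun u hu => LinearMap.ext fun v =>
        ((h.symm ▸ Submodule.mem_top : v ∈ W0) u hu).1) htriv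
  have hzc : ∀ c ∈ A, c ∈ normalizer (K : Set G) → ∀ u ∈ K, zOf ρ (c * u * c⁻¹) = zOf ρ u := by
    intro c hc hcn u hu
    have hcu : c * u * c⁻¹ ∈ K := (mem_normalizer_iff.1 hcn u).1 hu
    set y := zOf ρ (c * u * c⁻¹) - zOf ρ u with hy
    have hyK : ∀ v ∈ K, Commute (ρ v) y := fun v hv => (hzK _ hcu v hv).sub_right (hzK u hu v hv)
    have hya : Commute (ρ a) y := (hza _ hcu).sub_right (hza u hu)
    have hcb : ρ c * (ρ b - 1) = ρ b - 1 :=
      sub_eq_zero.1 (by rw [← hquad c hc]; noncomm_ring)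
    have hzb' : Commute (zOf ρ u) (ρ b - 1) := by
      refine Commute.sub_right ?_ (Commute.one_right _)
      show _ = _
      rw [rho_zOf_comm ρ u b, hzb u hu]
    have hyb : y * (ρ b - 1) = 0 := by
      calc y * (ρ b - 1) = y * ρ c * (ρ b - 1) := by rw [mul_assoc, hcb]
        _ = (ρ c * zOf ρ u) * (ρ b - 1) - zOf ρ u * (ρ c * (ρ b - 1)) := by
            rw [hy, sub_mul, sub_mul, ← rho_zOf_comm, mul_assoc (zOf ρ u)]
        _ = 0 := by rw [mul_assoc, hzb'.eq, ← mul_assoc, hcb, hzb'.eq, sub_self]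
    have hN : K ⊓ annLeft ρ y = K := by
      have hconj : ∀ v ∈ K, ∀ n ∈ annLeft ρ y, v * n * v⁻¹ ∈ annLeft ρ y := fun v hv n hn => by
        show y * (ρ (v * n * v⁻¹) - 1) = 0
        rw [show ρ (v * n * v⁻¹) - 1 = ρ v * (ρ n - 1) * ρ v⁻¹ by
          rw [mul_sub, sub_mul, mul_one, rho_mul_inv, map_mul, map_mul], ← mul_assoc, ← mul_assoc,
          ← (hyK v hv).eq, mul_assoc (ρ v), show y * (ρ n - 1) = 0 from hn, mul_zero, zero_mul]
      refine S.eq_of_commutator_mem hbn hnc inf_le_left (fun v hv n hn => ⟨?_, hconj v hv n hn.2⟩)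
        fun v hv => ⟨commutator_mem_of_mem_normalizer hbn hv, ?_⟩
      · exact K.mul_mem (K.mul_mem hv hn.1) (K.inv_mem hv)
      · rw [commutatorElement_def]
        exact (annLeft ρ y).mul_mem (hconj v hv b hyb) ((annLeft ρ y).inv_mem hyb)
    have hyk : ∀ k ∈ K, y * (ρ k - 1) = 0 := fun k hk =>
      (show k ∈ K ⊓ annLeft ρ y from hN.symm ▸ hk).2
    refine sub_eq_zero.1 (LinearMap.ext fun v => ?_)
    show y v = 0
    refine hfix0 _ fun k hk => ⟨?_, ?_⟩
    · rw [← Module.End.mul_apply, (hyK k hk).eq, show y * ρ k = y from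
        sub_eq_zero.1 (by rw [← mul_sub_one]; exact hyk k hk)]
    · have h1 : y * ρ k = y := sub_eq_zero.1 (by rw [← mul_sub_one]; exact hyk k hk)
      rw [← Module.End.mul_apply, map_mul, map_mul, hAinv a ha, mul_assoc, hya.eq, ← mul_assoc,
        mul_assoc (ρ a), (hyK k hk).eq, h1, hya.eq, mul_assoc, ← map_mul, hA2 a ha, map_one, mul_one]
  have hzA : ∀ c ∈ A, ∀ u ∈ K, Commute (ρ c) (zOf ρ u) := by
    have h0 : ∀ c ∈ A, c ∈ normalizer (K : Set G) → ∀ u ∈ K, Commute (ρ c) (zOf ρ u) :=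
      fun c hc hcn u hu => by
        show _ = _
        rw [rho_zOf_comm, hzc c hc hcn u hu]
    intro c hc u hu
    rcases hsplit c hc with h | h
    · exact h0 c hc h u hu
    · have h1 := (hza u hu).mul_left (h0 _ (mul_mem ha hc) h u hu)
      rwa [← map_mul, ← mul_assoc, hA2 a ha, one_mul] at h1
  -- the field of scalars
  set F : Subring (Module.End (ZMod 2) V) := Subring.closure {z | ∃ u ∈ K, z = zOf ρ u} with hF
  have hFc : ∀ g, (∀ u ∈ K, Commute (ρ g) (zOf ρ u)) → ∀ f ∈ F, Commute (ρ g) f := by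
    intro g hg f hf
    have : F ≤ Subring.centralizer {ρ g} := by
      rw [hF, Subring.closure_le]
      rintro _ ⟨u, hu, rfl⟩
      exact Subring.mem_centralizer_iff.2 fun x hx => by rw [Set.mem_singleton_iff.1 hx]; exact (hg u hu).eq
    exact Subring.mem_centralizer_iff.1 (this hf) _ rfl
  have hFK : ∀ v ∈ K, ∀ f ∈ F, Commute (ρ v) f := fun v hv => hFc v fun u hu => hzK u hu v hv
  have hFA : ∀ c ∈ A, ∀ f ∈ F, Commute (ρ c) f := fun c hc => hFc c (hzA c hc)
  set R : Subring (Module.End (ZMod 2) V) := Subring.closure {x | ∃ u ∈ K, x = ρ u} with hR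
  have hKR : ∀ u ∈ K, ρ u ∈ R := fun u hu => Subring.subset_closure ⟨u, hu, rfl⟩
  have hRc : ∀ x, (∀ u ∈ K, Commute x (ρ u)) → ∀ r ∈ R, Commute x r := by
    intro x hx r hr
    have : R ≤ Subring.centralizer {x} := by
      rw [hR, Subring.closure_le]
      rintro _ ⟨u, hu, rfl⟩
      exact Subring.mem_centralizer_iff.2 fun y hy => by rw [Set.mem_singleton_iff.1 hy]; exact (hx u hu).eq
    exact Subring.mem_centralizer_iff.1 (this hr) _ rfl
  have hFR : F ≤ R := by
    rw [hF, Subring.closure_le]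
    rintro _ ⟨u, hu, rfl⟩
    exact add_mem (hKR u hu) (hKR _ (inv_mem hu))
  have hcen : ∀ f ∈ F, ∀ r ∈ R, Commute f r := fun f hf =>
    hRc f fun u hu => (hFK u hu f hf).symm
  have hinv : ∀ f ∈ F, f ≠ 0 → ∃ g ∈ F, g * f = 1 := by
    intro f hf hf0
    have hker : LinearMap.ker f = ⊥ := by
      refine (hirr _ (fun g hg v hv => ?_) fun k hk v hv => ?_).resolve_right fun h =>
        hf0 (LinearMap.ker_eq_top.1 h)
      · rw [LinearMap.mem_ker, ← Module.End.mul_apply, ← (hFA g hg f hf).eq, Module.End.mul_apply,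
          LinearMap.mem_ker.1 hv, map_zero]
      · rw [LinearMap.mem_ker, ← Module.End.mul_apply, ← (hFK k hk f hf).eq, Module.End.mul_apply,
          LinearMap.mem_ker.1 hv, map_zero]
    have hinj : Function.Injective (fun g : F => (⟨f, hf⟩ : F) * g) := fun g h hgh =>
      Subtype.ext (LinearMap.ext fun v => LinearMap.ker_eq_bot.1 hker
        (LinearMap.congr_fun (congrArg Subtype.val hgh) v))
    obtain ⟨g, hg⟩ := Finite.surjective_of_injective hinj 1
    exact ⟨g, g.2, ((hcen f hf g (hFR g.2)).eq).symm.trans (congrArg Subtype.val hg)⟩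
  -- the involution
  have hsum : ∀ p ∈ pairs ρ K, p.1 + p.2 ∈ F := by
    intro p hp
    induction hp using AddSubgroup.closure_induction with
    | mem p hp => obtain ⟨u, hu, rfl⟩ := hp; exact Subring.subset_closure ⟨u, hu, rfl⟩
    | zero => simp
    | add p q _ _ hp hq => simpa [add_add_add_comm] using add_mem hp hq
    | neg p _ hp => simpa [add_comm] using neg_mem hp
  have huniq : ∀ x y y', (x, y) ∈ pairs ρ K → (x, y') ∈ pairs ρ K → y = y' := by
    intro x y y' h h'
    by_contra hne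
    have h0 : ((0 : Module.End (ZMod 2) V), y - y') ∈ pairs ρ K := by simpa using sub_mem h h'
    have hc0 : y - y' ∈ F := by simpa using hsum _ h0
    obtain ⟨g, hg, hgc⟩ := hinv _ hc0 (sub_ne_zero.2 hne)
    refine htriv (eq_one_of_commute ρ S.perfect fun u hu v hv => ?_)
    have h1 := hsum _ (pairs_mul ρ h0 (pairs_mem ρ (inv_mem hv)))
    rw [zero_mul, zero_add, inv_inv] at h1
    have h2 : ρ v ∈ F := by
      have := mul_mem hg h1
      rwa [← mul_assoc, (hcen g hg _ (hKR v hv)).eq, mul_assoc, hgc, mul_one] at this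
    exact (hFK u hu _ h2)
  have hRp : ∀ r ∈ R, ∃ y, (r, y) ∈ pairs ρ K := by
    intro r hr
    induction hr using Subring.closure_induction with
    | mem x hx => obtain ⟨u, hu, rfl⟩ := hx; exact ⟨_, pairs_mem ρ hu⟩
    | zero => exact ⟨0, zero_mem _⟩
    | one => exact ⟨_, by simpa using pairs_mem ρ (one_mem K)⟩
    | add x y _ _ hx hy => obtain ⟨x', hx'⟩ := hx; obtain ⟨y', hy'⟩ := hy; exact ⟨x' + y', add_mem hx' hy'⟩
    | neg x _ hx => obtain ⟨x', hx'⟩ := hx; exact ⟨-x', neg_mem hx'⟩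
    | mul x y _ _ hx hy => obtain ⟨x', hx'⟩ := hx; obtain ⟨y', hy'⟩ := hy; exact ⟨y' * x', pairs_mul ρ hx' hy'⟩
  have hpR : ∀ p ∈ pairs ρ K, p.1 ∈ R ∧ p.2 ∈ R := by
    intro p hp
    induction hp using AddSubgroup.closure_induction with
    | mem p hp => obtain ⟨u, hu, rfl⟩ := hp; exact ⟨hKR u hu, hKR _ (inv_mem hu)⟩
    | zero => exact ⟨zero_mem R, zero_mem R⟩
    | add p q _ _ hp hq => exact ⟨add_mem hp.1 hq.1, add_mem hp.2 hq.2⟩
    | neg p _ hp => exact ⟨neg_mem hp.1, neg_mem hp.2⟩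
  choose! σ hσ using hRp
  have hσe : ∀ x y, (x, y) ∈ pairs ρ K → σ x = y := fun x y h =>
    huniq x _ _ (hσ x (hpR _ h).1) h
  have hσF : ∀ f ∈ F, σ f = f := by
    suffices h : ∀ f ∈ F, (f, f) ∈ pairs ρ K from fun f hf => hσe f f (h f hf)
    intro f hf
    induction hf using Subring.closure_induction with
    | mem x hx =>
      obtain ⟨u, hu, rfl⟩ := hx
      have := add_mem (pairs_mem ρ hu) (pairs_symm ρ (pairs_mem ρ hu))
      rwa [Prod.mk_add_mk, add_comm (ρ u⁻¹) (ρ u)] at this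
    | zero => exact zero_mem _
    | one => simpa using pairs_mem ρ (one_mem K)
    | add x y _ _ hx hy => exact add_mem hx hy
    | neg x _ hx => exact neg_mem hx
    | mul x y hxF hyF hx hy =>
      have := pairs_mul ρ hx hy
      rwa [(hcen y hyF x (hFR hxF)).eq] at this
  have hnorm : ∀ p ∈ pairs ρ K, p.1 * p.2 ∈ F := by
    intro p hp
    induction hp using AddSubgroup.closure_induction with
    | mem p hp => obtain ⟨u, hu, rfl⟩ := hp; rw [rho_mul_inv]; exact one_mem F
    | zero => simp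
    | add p q hp' hq' hp hq =>
      have h1 := hsum _ (pairs_mul ρ (x := p.1) (y := p.2) hp' (pairs_symm ρ (x := q.1) (y := q.2) hq'))
      rw [Prod.fst_add, Prod.snd_add, show (p.1 + q.1) * (p.2 + q.2)
        = p.1 * p.2 + q.1 * q.2 + (p.1 * q.2 + q.1 * p.2) by noncomm_ring]
      exact add_mem (add_mem hp hq) h1
    | neg p _ hp => simpa using hp
  have hmulσ : ∀ r ∈ R, ∀ s ∈ R, σ (r * s) = σ s * σ r := fun r hr s hs =>
    hσe _ _ (pairs_mul ρ (hσ r hr) (hσ s hs))
  have htrc : ∀ r ∈ R, ∀ s ∈ R, r * s + σ (r * s) = s * r + σ (s * r) := fun r hr s hs => by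
    rw [hmulσ r hr s hs, hmulσ s hs r hr]
    exact pairs_trace_comm ρ hzK (hσ r hr) (hσ s hs)
  have htrF : ∀ f ∈ F, ∀ r ∈ R, f * r + σ (f * r) = f * (r + σ r) := fun f hf r hr => by
    rw [hmulσ f (hFR hf) r hr, hσF f hf, ← (hcen f hf _ (hpR _ (hσ r hr)).2).eq, mul_add]
  have hK1R : ∀ k ∈ K, ∀ r ∈ R, Commute (ρ (a * k * a⁻¹)) r := fun k hk =>
    hRc _ fun u hu => rho_commute ρ (S.commute_conj ha han u hu k hk).symm
  have hcR : ∀ c ∈ normalizer (K : Set G), ∀ r ∈ R, ρ c * r * ρ c⁻¹ ∈ R ∧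
      σ (ρ c * r * ρ c⁻¹) = ρ c * σ r * ρ c⁻¹ := fun c hc r hr =>
    ⟨(hpR _ (pairs_conj ρ hc (hσ r hr))).1, hσe _ _ (pairs_conj ρ hc (hσ r hr))⟩
  have hnd : ∀ r ∈ R, r ≠ 0 → ∃ s ∈ R, r * s + σ (r * s) ≠ 0 := by
    by_contra hJ
    push Not at hJ
    obtain ⟨j₀, hj₀, hj₀0, hj₀t⟩ := hJ
    let J : Set (Module.End (ZMod 2) V) := {r | r ∈ R ∧ ∀ s ∈ R, r * s + σ (r * s) = 0}
    have hFJ : ∀ f ∈ F, f ∈ J → f = 0 := by
      intro f hf hfJ
      by_contra hf0
      obtain ⟨g, _, hgf⟩ := hinv f hf hf0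
      refine htriv (eq_one_of_pow_twelve ρ S.perfect fun u hu v hv => ?_)
      have h1 := hfJ.2 (ρ u) (hKR u hu)
      rw [htrF f hf _ (hKR u hu), hσe _ _ (pairs_mem ρ hu)] at h1
      have h3 : ρ u + ρ u⁻¹ = 0 := by
        rw [← one_mul (ρ u + ρ u⁻¹), ← hgf, mul_assoc, h1, mul_zero]
      have h4 : ρ u * ρ u = 1 := by
        have h5 : ρ u * (ρ u + ρ u⁻¹) = 0 := by rw [h3, mul_zero]
        rw [mul_add, rho_mul_inv] at h5
        exact (eq_neg_of_add_eq_zero_left h5).trans (eq_neg_of_add_eq_zero_left (h2 1)).symm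
      rw [show (12 : ℕ) = 2 * 6 from rfl, pow_mul, pow_two, h4, one_pow]
      exact Commute.one_left _
    have hsq : ∀ j ∈ J, j * j = 0 := by
      intro j hj
      have ht := hj.2 1 (one_mem R)
      rw [mul_one] at ht
      have hσj : σ j = j := ((eq_neg_of_add_eq_zero_left (h2 j)).trans
        (neg_eq_of_add_eq_zero_right ht)).symm
      refine hFJ _ ?_ ⟨mul_mem hj.1 hj.1, fun s hs => ?_⟩
      · have := hnorm _ (hσ j hj.1)
        rwa [hσj] at this
      · rw [mul_assoc]; exact hj.2 _ (mul_mem hj.1 hs)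
    have hJadd : ∀ i ∈ J, ∀ j ∈ J, i + j ∈ J := fun i hi j hj => ⟨add_mem hi.1 hj.1, fun s hs => by
      rw [add_mul, hσe (i * s + j * s) (σ (i * s) + σ (j * s)) (add_mem (hσ _ (mul_mem hi.1 hs)) (hσ _ (mul_mem hj.1 hs))), add_add_add_comm,
        hi.2 s hs, hj.2 s hs, add_zero]⟩
    have hJc : ∀ i ∈ J, ∀ j ∈ J, Commute i j := fun i hi j hj => by
      have h := hsq _ (hJadd i hi j hj)
      rw [add_mul, mul_add, mul_add, hsq i hi, hsq j hj, zero_add, add_zero] at h
      exact (eq_neg_of_add_eq_zero_left h).trans (eq_neg_of_add_eq_zero_left (h2 (j * i))).symm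
    have hJr : ∀ j ∈ J, ∀ r ∈ R, j * r ∈ J := fun j hj r hr => ⟨mul_mem hj.1 hr, fun s hs => by
      rw [mul_assoc]; exact hj.2 _ (mul_mem hr hs)⟩
    have hJconj : ∀ c ∈ normalizer (K : Set G), ∀ j ∈ J, ρ c * j * ρ c⁻¹ ∈ J := fun c hc j hj => by
      refine ⟨(hcR c hc j hj.1).1, fun s hs => ?_⟩
      have hs' : ρ c⁻¹ * s * ρ c ∈ R := by simpa using (hcR c⁻¹ (inv_mem hc) s hs).1
      have e : ρ c * j * ρ c⁻¹ * s = ρ c * (j * (ρ c⁻¹ * s * ρ c)) * ρ c⁻¹ := by
        calc _ = ρ c * j * ρ c⁻¹ * s * (ρ c * ρ c⁻¹) := by rw [rho_mul_inv, mul_one]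
          _ = _ := by simp only [mul_assoc]
      rw [e, (hcR c hc _ (mul_mem hj.1 hs')).2, ← add_mul, ← mul_add, hj.2 _ hs', mul_zero, zero_mul]
    have hopc : ∀ i ∈ J, ∀ j ∈ J, Commute i (ρ a * j * ρ a) := fun i hi j hj => by
      refine (hRc _ (fun u hu => ?_) i hi.1).symm
      have h := (hK1R u hu j hj.1).symm
      rw [map_mul, map_mul, hAinv a ha] at h
      show _ = _
      have haa : ρ a * ρ a = 1 := by rw [← map_mul, hA2 a ha, map_one]
      calc ρ a * j * ρ a * ρ u = ρ a * (j * (ρ a * ρ u * (ρ a * ρ a))) := by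
            rw [haa, mul_one]; simp only [mul_assoc]
        _ = ρ a * (j * (ρ a * ρ u * ρ a)) * ρ a := by simp only [mul_assoc]
        _ = ρ a * (ρ a * ρ u * ρ a * j) * ρ a := by rw [h.eq]
        _ = ρ u * (ρ a * j * ρ a) := by simp only [← mul_assoc, haa, one_mul]
    classical
    have := Fintype.ofFinite (Module.End (ZMod 2) V)
    have haa : ρ a * ρ a = 1 := by rw [← map_mul, hA2 a ha, map_one]
    have hconjmul : ∀ i j, ρ a * i * ρ a * (ρ a * j * ρ a) = ρ a * (i * j) * ρ a := fun i j => by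
      calc _ = ρ a * i * (ρ a * ρ a) * j * ρ a := by simp only [mul_assoc]
        _ = _ := by rw [haa, mul_one]; simp only [mul_assoc]
    obtain ⟨v, hv0, hv⟩ := exists_common_kernel
      (Finset.univ.filter fun x : Module.End (ZMod 2) V => x ∈ J ∨ ∃ j ∈ J, x = ρ a * j * ρ a)
      (fun x hx => by
        rcases (Finset.mem_filter.1 hx).2 with h | ⟨j, hj, rfl⟩
        · exact hsq x h
        · rw [hconjmul, hsq j hj, mul_zero, zero_mul])
      (fun x hx y hy => by
        rcases (Finset.mem_filter.1 hx).2 with h | ⟨i, hi, rfl⟩ <;>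
          rcases (Finset.mem_filter.1 hy).2 with h' | ⟨j, hj, rfl⟩
        · exact hJc x h y h'
        · exact hopc x h j hj
        · exact (hopc y h' i hi).symm
        · show _ = _
          rw [hconjmul, hconjmul, (hJc i hi j hj).eq])
    let U : Submodule (ZMod 2) V :=
      { carrier := {v | ∀ j ∈ J, j v = 0 ∧ j (ρ a v) = 0}
        add_mem' := fun hv hw j hj => ⟨by rw [map_add, (hv j hj).1, (hw j hj).1, add_zero],
          by rw [map_add, map_add, (hv j hj).2, (hw j hj).2, add_zero]⟩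
        zero_mem' := fun j _ => ⟨map_zero _, by rw [map_zero, map_zero]⟩
        smul_mem' := fun r v hv j hj => ⟨by rw [map_smul, (hv j hj).1, smul_zero],
          by rw [map_smul, map_smul, (hv j hj).2, smul_zero]⟩ }
    have hvU : v ∈ U := fun j hj => ⟨hv j (Finset.mem_filter.2 ⟨Finset.mem_univ _, Or.inl hj⟩), by
      have h := hv _ (Finset.mem_filter.2 ⟨Finset.mem_univ _, Or.inr ⟨j, hj, rfl⟩⟩)
      have h' := congrArg (ρ a) h
      rwa [map_zero, ← Module.End.mul_apply, ← mul_assoc, ← mul_assoc, haa, one_mul,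
        Module.End.mul_apply] at h'⟩
    rcases hirr U
      (hinvA U
        (fun w hw j hj => ⟨(hw j hj).2, by
          rw [← Module.End.mul_apply (ρ a), haa, Module.End.one_apply, (hw j hj).1]⟩)
        fun c hc hcn w hw j hj => by
          have hj' : ρ c⁻¹ * j * ρ c ∈ J := by simpa using hJconj c⁻¹ (inv_mem hcn) j hj
          have e : ∀ x, j (ρ c x) = ρ c ((ρ c⁻¹ * j * ρ c) x) := fun x => by
            rw [← Module.End.mul_apply, ← Module.End.mul_apply, ← mul_assoc, ← mul_assoc, rho_mul_inv,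
              one_mul]
          refine ⟨by rw [e, (hw _ hj').1, map_zero], ?_⟩
          rw [← Module.End.mul_apply (ρ a), (rho_commute ρ (S.comm a ha c hc)).eq, Module.End.mul_apply, e,
            (hw _ hj').2, map_zero])
      (fun k hk w hw j hj => ⟨by rw [← Module.End.mul_apply]; exact (hw _ (hJr j hj _ (hKR k hk))).1, by
        rw [← Module.End.mul_apply (ρ a), ← rho_conj_mul ρ a k, Module.End.mul_apply,
          ← Module.End.mul_apply, ← (hK1R k hk j hj.1).eq, Module.End.mul_apply, (hw j hj).2, map_zero]⟩)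
      with h | h
    · exact hv0 ((Submodule.mem_bot (ZMod 2)).1 (h ▸ hvU))
    · exact hj₀0 (LinearMap.ext fun w => ((h.symm ▸ Submodule.mem_top : w ∈ U) j₀ ⟨hj₀, hj₀t⟩).1)
  have D : QuadData R F σ :=
    { char := h2
      le := hFR
      central := hcen
      inv := hinv
      σR := fun r hr => (hpR _ (hσ r hr)).2
      σadd := fun r hr s hs => hσe _ _ (add_mem (hσ r hr) (hσ s hs))
      σmul := hmulσ
      σF := hσF
      trace := fun r hr => hsum _ (hσ r hr)
      norm := fun r hr => hnorm _ (hσ r hr)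
      nondeg := hnd }
  have hVne : Nontrivial (Module.End (ZMod 2) V) := inferInstance
  -- the image of the normalising part of `A`
  set Γ := (A ⊓ normalizer (K : Set G)).map ρ.toHomUnits with hΓ
  have hΓcard : Nat.card Γ ≤ Nat.card F := by
    refine D.card_autGroup_le ?_ Γ ?_ ?_ ?_ ?_
    · by_contra hne
      push Not at hne
      exact htriv (eq_one_of_commute ρ S.perfect fun u hu v hv => hne _ (hKR u hu) _ (hKR v hv))
    · rintro ⟨_, c, hc, rfl⟩
      refine ⟨1, Subtype.ext ?_⟩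
      show ρ.toHomUnits c ^ 2 ^ 1 = 1
      rw [pow_one, ← map_pow, S.exp c hc.1, map_one]
    · rintro _ ⟨c, hc, rfl⟩ r hr
      rw [← map_inv]
      exact (hcR c hc.2 r hr).1
    · rintro _ ⟨c, hc, rfl⟩ x hx
      exact hFA c hc.1 x hx
    · rintro _ ⟨c, hc, rfl⟩ hcom
      refine Units.ext ?_
      show ρ c = 1
      set N := ρ c - 1 with hN
      have hNN : N * N = 0 := by
        calc N * N = ρ c * ρ c - (ρ c + ρ c) + 1 := by rw [hN]; noncomm_ring
          _ = 0 := by rw [← map_mul, hA2 c hc.1, map_one, h2, sub_zero, h2]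
      have hNK : ∀ k ∈ K, Commute (ρ k) N := fun k hk =>
        (show Commute (ρ c) (ρ k) from hcom _ (hKR k hk)).symm.sub_right (Commute.one_right _)
      have hNA : ∀ g ∈ A, Commute (ρ g) N := fun g hg =>
        (rho_commute ρ (S.comm g hg c hc.1)).sub_right (Commute.one_right _)
      rcases hirr (LinearMap.ker N)
        (fun g hg v hv => by
          rw [LinearMap.mem_ker, ← Module.End.mul_apply, ← (hNA g hg).eq, Module.End.mul_apply,
            LinearMap.mem_ker.1 hv, map_zero])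
        (fun k hk v hv => by
          rw [LinearMap.mem_ker, ← Module.End.mul_apply, ← (hNK k hk).eq, Module.End.mul_apply,
            LinearMap.mem_ker.1 hv, map_zero]) with h | h
      · exfalso
        obtain ⟨v, hv⟩ := exists_ne (0 : V)
        refine hv (LinearMap.ker_eq_bot.1 h ?_)
        refine LinearMap.ker_eq_bot.1 h ?_
        rw [map_zero, map_zero, ← Module.End.mul_apply, hNN, LinearMap.zero_apply]
      · exact sub_eq_zero.1 (LinearMap.ker_eq_top.1 h)
  have hAimg : Nat.card (A.map ρ.toHomUnits) ≤ 2 * Nat.card Γ := by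
    let f : Bool × Γ → A.map ρ.toHomUnits := fun x =>
      cond x.1 ⟨ρ.toHomUnits a * x.2, mul_mem (mem_map_of_mem _ ha)
        (Subgroup.map_mono inf_le_left x.2.2)⟩ ⟨x.2, Subgroup.map_mono inf_le_left x.2.2⟩
    have hf : Function.Surjective f := by
      rintro ⟨_, c, hc, rfl⟩
      rcases hsplit c hc with h | h
      · exact ⟨(false, ⟨_, mem_map_of_mem _ ⟨hc, h⟩⟩), rfl⟩
      · refine ⟨(true, ⟨_, mem_map_of_mem _ ⟨mul_mem ha hc, h⟩⟩), Subtype.ext ?_⟩
        show ρ.toHomUnits a * ρ.toHomUnits (a * c) = ρ.toHomUnits c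
        rw [← map_mul, ← mul_assoc, hA2 a ha, one_mul]
    have := Nat.card_le_card_of_surjective f hf
    rwa [Nat.card_prod, show Nat.card Bool = 2 by simp] at this
  -- fixed spaces
  let fixS : G → Submodule (ZMod 2) V := fun g => LinearMap.ker (ρ g - 1)
  have hmemfix : ∀ g v, v ∈ fixS g ↔ ρ g v = v := fun g v => by simp [fixS, sub_eq_zero]
  have hFfix : ∀ g ∈ A, ∀ f ∈ F, ∀ v ∈ fixS g, f v ∈ fixS g := fun g hg f hf v hv => by
    rw [hmemfix, ← Module.End.mul_apply, (hFA g hg f hf).eq, Module.End.mul_apply, (hmemfix g v).1 hv]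
  have hab_lt : fixS a ⊓ fixS b < fixS a := by
    refine lt_of_le_of_ne inf_le_left fun heq => htriv ?_
    have hle : ∀ v, ρ a v = v → ρ b v = v := fun v hv =>
      (hmemfix b v).1 ((show v ∈ fixS a ⊓ fixS b from heq.symm ▸ (hmemfix a v).2 hv).2)
    have hi : ∀ g v, ρ g⁻¹ (ρ g v) = v := fun g v => LinearMap.congr_fun (rho_inv_mul ρ g) v
    have hi' : ∀ g v, ρ g (ρ g⁻¹ v) = v := fun g v => LinearMap.congr_fun (rho_mul_inv ρ g) v
    let H : Subgroup G :=
      { carrier := {g | (∀ v, ρ a v = v → ρ g v = v) ∧ ∀ v, ρ a (ρ g v - v) = ρ g v - v}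
        one_mem' := ⟨fun v _ => by simp, fun v => by simp⟩
        mul_mem' := fun {x y} hx hy => by
          refine ⟨fun v hv => ?_, fun v => ?_⟩
          · rw [map_mul, Module.End.mul_apply, hy.1 v hv, hx.1 v hv]
          · have e : ρ (x * y) v - v = (ρ y v - v) + (ρ x v - v) := by
              have h := hx.1 _ (hy.2 v)
              rw [map_sub] at h
              rw [← h, map_mul, Module.End.mul_apply]; abel
            rw [e, map_add, hy.2 v, hx.2 v]
        inv_mem' := fun {x} hx => by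
          refine ⟨fun v hv => ?_, fun v => ?_⟩
          · conv_lhs => rw [← hx.1 v hv, hi]
          · have h := hx.2 (ρ x⁻¹ v)
            rw [hi'] at h
            rw [← neg_sub v (ρ x⁻¹ v), map_neg, h] }
    have hbH : b ∈ H := ⟨hle, fun v => by
      have h := LinearMap.congr_fun hab v
      simp only [Module.End.mul_apply, LinearMap.sub_apply, Module.End.one_apply, LinearMap.zero_apply] at h
      exact sub_eq_zero.1 h⟩
    have hHc : ∀ g, Commute g a → ∀ h ∈ H, g * h * g⁻¹ ∈ H := fun g hg h hh => by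
      have hc' : ∀ v, ρ a (ρ g v) = ρ g (ρ a v) := fun v =>
        LinearMap.congr_fun (rho_commute ρ hg).symm.eq v
      have hc'' : ∀ v, ρ a (ρ g⁻¹ v) = ρ g⁻¹ (ρ a v) := fun v =>
        LinearMap.congr_fun (rho_commute ρ hg.inv_left).symm.eq v
      refine ⟨fun v hv => ?_, fun v => ?_⟩
      · simp only [map_mul, Module.End.mul_apply]
        rw [hh.1 (ρ g⁻¹ v) (by rw [hc'', hv]), hi']
      · have e : ρ (g * h * g⁻¹) v - v = ρ g (ρ h (ρ g⁻¹ v) - ρ g⁻¹ v) := by
          rw [map_sub, hi']; simp only [map_mul, Module.End.mul_apply]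
        rw [e, hc', hh.2]
    have hd : ∀ u ∈ K, orbitProd a u 2 ∈ H :=
      S.orbitProd_mem_of_normalizer ha han hbn (S.comm b hb a ha) hnc H hHc hbH
    have hHab : ∀ g ∈ H, ∀ h ∈ H, Commute (ρ g) (ρ h) := fun g hg h hh => LinearMap.ext fun v => by
      show ρ g (ρ h v) = ρ h (ρ g v)
      have e1 := hg.1 _ (hh.2 v)
      have e2 := hh.1 _ (hg.2 v)
      rw [map_sub, sub_eq_iff_eq_add] at e1 e2
      rw [e1, e2]; abel
    refine eq_one_of_commutators_commute ρ S.perfect fun u hu v hv w hw => ?_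
    have huv : ⁅u, v⁆ ∈ K := commutator_mem_of_mem_normalizer (Subgroup.le_normalizer hv) hu
    have hs := S.spread ha han
    have e : ρ (orbitProd a ⁅u, v⁆ 2) = 1 := by
      rw [commutatorElement_def, hs.orbitProd_mul (mul_mem (mul_mem hu hv) (inv_mem hu)) (inv_mem hv) 2 le_rfl,
        hs.orbitProd_mul (mul_mem hu hv) (inv_mem hu) 2 le_rfl, hs.orbitProd_mul hu hv 2 le_rfl,
        hs.orbitProd_inv hu, hs.orbitProd_inv hv]
      simp only [map_mul]
      rw [(hHab _ (hd u hu) _ (hd v hv)).eq, mul_assoc (ρ (orbitProd a v 2)), rho_mul_inv, mul_one,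
        rho_mul_inv]
    rw [orbitProd_two, map_mul] at e
    have e' : ρ ⁅u, v⁆ = ρ (a * ⁅u, v⁆ * a⁻¹)⁻¹ := by
      rw [← mul_one (ρ ⁅u, v⁆), ← rho_mul_inv ρ (a * ⁅u, v⁆ * a⁻¹), ← mul_assoc, e, one_mul]
    rw [e']
    exact rho_commute ρ ((S.commute_conj ha han w hw _ huv).symm.inv_left)
  have ha_lt : fixS a < ⊤ := lt_top_iff_ne_top.2 fun h => htriv
    (eq_one_of_commute ρ S.perfect fun u hu v hv => by
      have hT : ρ a = 1 := sub_eq_zero.1 (LinearMap.ker_eq_top.1 h)
      have h' := rho_commute ρ (S.commute_conj ha han u hu v hv)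
      rwa [map_mul, map_mul, hT, one_mul, hAinv a ha, hT, mul_one] at h')
  have hCA : Nat.card {v : V // ∀ c ∈ A, ρ c v = v} ≤ Nat.card ↥(fixS a ⊓ fixS b) :=
    Nat.card_le_card_of_injective
      (fun v => ⟨v.1, (hmemfix a _).2 (v.2 a ha), (hmemfix b _).2 (v.2 b hb)⟩)
      fun v w h => Subtype.ext (congrArg (fun x : ↥(fixS a ⊓ fixS b) => (x : V)) h)
  have h1 := card_field_mul_le F hinv hab_lt
    (fun f hf v hv => ⟨hFfix a ha f hf v hv.1, hFfix b hb f hf v hv.2⟩) (hFfix a ha)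
  have h3 := card_field_mul_le F hinv ha_lt (hFfix a ha) (fun f _ v _ => Submodule.mem_top)
  have htop : Nat.card (⊤ : Submodule (ZMod 2) V) = Nat.card V :=
    Nat.card_congr (Equiv.Set.univ V)
  rw [htop] at h3
  have hq : Nat.card F ≤ 2 := by
    set q := Nat.card F
    set c := Nat.card {v : V // ∀ c ∈ A, ρ c v = v}
    have : Nonempty {v : V // ∀ c ∈ A, ρ c v = v} := ⟨⟨0, fun c _ => map_zero _⟩⟩
    have hc0 : 0 < c := Nat.card_pos
    have hq0 : 0 < q := Nat.card_pos
    have h4 : q * c * q ≤ 2 * c * q := calc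
      q * c * q ≤ q * Nat.card ↥(fixS a ⊓ fixS b) * q := Nat.mul_le_mul_right _ (Nat.mul_le_mul_left _ hCA)
      _ ≤ Nat.card (fixS a) * q := Nat.mul_le_mul_right _ h1
      _ = q * Nat.card (fixS a) := mul_comm _ _
      _ ≤ Nat.card V := h3
      _ ≤ Nat.card (A.map ρ.toHomUnits) * c := hoff
      _ ≤ 2 * q * c := Nat.mul_le_mul_right _ (hAimg.trans (Nat.mul_le_mul_left _ hΓcard))
      _ = 2 * c * q := by ring
    exact Nat.le_of_mul_le_mul_right (Nat.le_of_mul_le_mul_right h4 hq0) hc0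
  refine htriv (eq_one_of_pow_twelve ρ S.perfect fun u hu v hv => ?_)
  have hz : zOf ρ u = 0 ∨ zOf ρ u = 1 := by
    by_contra hne
    push Not at hne
    have hFin := Fintype.ofFinite F
    rw [Nat.card_eq_fintype_card] at hq
    have h3' : 2 < Fintype.card F := Fintype.two_lt_card_iff.2
      ⟨⟨zOf ρ u, Subring.subset_closure ⟨u, hu, rfl⟩⟩, 0, 1, fun h => hne.1 (congrArg Subtype.val h),
        fun h => hne.2 (congrArg Subtype.val h),
        fun h => zero_ne_one (α := Module.End (ZMod 2) V) (congrArg Subtype.val h)⟩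
    omega
  have h12 : ρ u ^ 12 = 1 := by
    have hmul : ρ u * zOf ρ u = ρ u * ρ u + 1 := by unfold zOf; rw [mul_add, rho_mul_inv]
    rcases hz with h | h
    · rw [h, mul_zero] at hmul
      have hu2 : ρ u * ρ u = 1 :=
        (eq_neg_of_add_eq_zero_left hmul.symm).trans (eq_neg_of_add_eq_zero_left (h2 1)).symm
      rw [show (12 : ℕ) = 2 * 6 from rfl, pow_mul, pow_two, hu2, one_pow]
    · rw [h, mul_one] at hmul
      have hu3 : ρ u ^ 3 = 1 := by
        have hu2 : ρ u * ρ u = ρ u + 1 := by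
          calc ρ u * ρ u = ρ u * ρ u + (1 + 1) := by rw [h2, add_zero]
            _ = ρ u * ρ u + 1 + 1 := by rw [add_assoc]
            _ = ρ u + 1 := by rw [← hmul]
        calc ρ u ^ 3 = ρ u * (ρ u * ρ u) := by noncomm_ring
          _ = ρ u * ρ u + ρ u := by rw [hu2, mul_add, mul_one, hu2]
          _ = 1 := by
            rw [hu2]
            calc ρ u + 1 + ρ u = ρ u + ρ u + 1 := by abel
              _ = 1 := by rw [h2, zero_add]
      rw [show (12 : ℕ) = 3 * 4 from rfl, pow_mul, hu3, one_pow]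
  rw [h12]
  exact Commute.one_left _

end CfsgLib.LocalEven.PGV
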