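import Cfsg.Agent.Lib.LocalEven.PGV.Basic

/-!
The P(G,V) theorem, odd primes: a quadratic mover, or a mover with a normalising partner.
-/

namespace CfsgLib.LocalEven.PGV

open Subgroup
open scoped commutatorElement

variable {G V : Type*} [Group G] [AddCommGroup V] [Finite V] {p : ℕ} [hp : Fact p.Prime]
  [Module (ZMod p) V] (ρ : Representation (ZMod p) G V) {A K : Subgroup G}

omit [Finite V] in
theorem eq_zero_of_add_self (hp2 : p ≠ 2) {x : Module.End (ZMod p) V} (h : x + x = 0) : x = 0 := by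
  have h2 : (2 : ZMod p) ≠ 0 := by
    intro h0
    have h' : ((2 : ℕ) : ZMod p) = 0 := by exact_mod_cast h0
    exact hp2 ((Nat.prime_dvd_prime_iff_eq hp.out Nat.prime_two).1
      ((ZMod.natCast_eq_zero_iff _ _).1 h'))
  calc x = ((2 : ZMod p)⁻¹ * 2) • x := by rw [inv_mul_cancel₀ h2, one_smul]
    _ = 0 := by rw [mul_smul, two_smul, h, smul_zero]

omit [Finite V] in
/-- A quadratic mover forces all ring commutators to be central with square zero. -/
theorem commutator_central_of_quad (S : Setup p A K) (hp2 : p ≠ 2) {a : G} (ha : a ∈ A)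
    (han : a ∉ normalizer (K : Set G)) (hq : (ρ a - 1) * (ρ a - 1) = 0)
    {u v w : G} (hu : u ∈ K) (hv : v ∈ K) (hw : w ∈ K) :
    Commute (ρ u * ρ v - ρ v * ρ u) (ρ w) := by
  have h2p : 2 < p := lt_of_le_of_ne hp.out.two_le (Ne.symm hp2)
  have hs := S.spread ha han
  have hc : ∀ x ∈ K, ∀ y ∈ K, Commute (ρ x) (ρ (a * y * a⁻¹)) := fun x hx y hy =>
    rho_commute ρ (S.commute_conj ha han x hx y hy)
  have hc2 : ∀ x ∈ K, ∀ y ∈ K, Commute (ρ (a ^ 2 * x * (a ^ 2)⁻¹)) (ρ (a * y * a⁻¹)) := by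
    intro x hx y hy
    simpa using rho_commute ρ (hs 2 h2p 1 (by omega) (by omega) x hx y hy)
  have hai : ρ a⁻¹ = 2 - ρ a := by
    calc ρ a⁻¹ = ρ a⁻¹ * 1 := (mul_one _).symm
      _ = ρ a⁻¹ * (ρ a * (2 - ρ a)) := by
          congr 1
          refine (sub_eq_zero.1 ?_).symm
          calc ρ a * (2 - ρ a) - 1 = -((ρ a - 1) * (ρ a - 1)) := by noncomm_ring
            _ = 0 := by rw [hq, neg_zero]
      _ = 2 - ρ a := by rw [← mul_assoc, rho_inv_mul, one_mul]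
  have he : ∀ x, (ρ (a ^ 2 * x * (a ^ 2)⁻¹) - ρ x) * ρ a
      = (ρ (a * x * a⁻¹) - ρ x) + (ρ (a * x * a⁻¹) - ρ x) := by
    intro x
    have e1 : ρ (a ^ 2 * x * (a ^ 2)⁻¹) * ρ a = ρ a * ρ a * ρ x * (2 - ρ a) := by
      rw [← hai, ← map_mul, ← map_mul, ← map_mul, ← map_mul]
      congr 1; rw [pow_two]; group
    have e2 : ρ (a * x * a⁻¹) = ρ a * ρ x * (2 - ρ a) := by
      rw [← hai, ← map_mul, ← map_mul]
    have e3 : ρ a * ρ a = ρ a + ρ a - 1 := by
      refine sub_eq_zero.1 ?_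
      rw [← hq]; noncomm_ring
    have e4 : ρ x * (2 - ρ a) = ρ x + ρ x - ρ x * ρ a := by noncomm_ring
    rw [sub_mul, e1, e2, e3, mul_assoc (ρ a + ρ a - 1), mul_assoc (ρ a), e4]
    noncomm_ring
  have key : ∀ x ∈ K, ∀ y ∈ K, ρ (a * x * a⁻¹) * ρ y + ρ (a * y * a⁻¹) * ρ x
      = ρ x * ρ y + ρ (a * y * a⁻¹) * ρ (a * x * a⁻¹) := by
    intro x hx y hy
    set E := ρ (a ^ 2 * x * (a ^ 2)⁻¹) - ρ x with hE
    set D := ρ (a * x * a⁻¹) - ρ x with hD
    have hl : Commute E (ρ (a * y * a⁻¹)) := (hc2 x hx y hy).sub_left (hc x hx y hy)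
    have h1 : (D + D) * ρ y = ρ (a * y * a⁻¹) * (D + D) := by
      rw [hD, ← he x, ← hE, mul_assoc E, ← rho_conj_mul ρ a y, ← mul_assoc, hl.eq, mul_assoc]
    have h2 : D * ρ y - ρ (a * y * a⁻¹) * D = 0 := by
      refine eq_zero_of_add_self hp2 ?_
      calc _ = (D + D) * ρ y - ρ (a * y * a⁻¹) * (D + D) := by noncomm_ring
        _ = 0 := sub_eq_zero.2 h1
    refine sub_eq_zero.1 ?_
    rw [← h2, hD]; noncomm_ring
  have hcx : ρ u * ρ v - ρ v * ρ u
      = ρ (a * u * a⁻¹) * ρ (a * v * a⁻¹) - ρ (a * v * a⁻¹) * ρ (a * u * a⁻¹) := by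
    have k1 := key u hu v hv
    have k2 := key v hv u hu
    rw [add_comm, k2] at k1
    refine sub_eq_zero.1 ?_
    calc _ = (ρ u * ρ v + ρ (a * v * a⁻¹) * ρ (a * u * a⁻¹))
          - (ρ v * ρ u + ρ (a * u * a⁻¹) * ρ (a * v * a⁻¹)) := by noncomm_ring
      _ = 0 := sub_eq_zero.2 k1.symm
  rw [hcx]
  exact (((hc w hw u hu).mul_right (hc w hw v hv)).sub_right
    ((hc w hw v hv).mul_right (hc w hw u hu))).symm

/-- A quadratic mover is impossible for odd primes. -/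
theorem eq_one_of_quad_mover (S : Setup p A K) (hp2 : p ≠ 2) {a : G} (ha : a ∈ A)
    (han : a ∉ normalizer (K : Set G)) (hq : (ρ a - 1) * (ρ a - 1) = 0) : ∀ u ∈ K, ρ u = 1 := by
  have hcen : ∀ u ∈ K, ∀ v ∈ K, ∀ w ∈ K, Commute (ρ u * ρ v - ρ v * ρ u) (ρ w) :=
    fun u hu v hv w hw => commutator_central_of_quad ρ S hp2 ha han hq hu hv hw
  have hsq : ∀ u ∈ K, ∀ v ∈ K, (ρ u * ρ v - ρ v * ρ u) * (ρ u * ρ v - ρ v * ρ u) = 0 := by
    intro u hu v hv
    set c := ρ u * ρ v - ρ v * ρ u with hc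
    have h2 := (hcen u hu (v * v) (mul_mem hv hv) u hu).eq
    have hexp : ρ u * ρ (v * v) - ρ (v * v) * ρ u = c * ρ v + c * ρ v := by
      calc ρ u * ρ (v * v) - ρ (v * v) * ρ u = c * ρ v + ρ v * c := by
            rw [map_mul, hc]; noncomm_ring
        _ = _ := by rw [(hcen u hu v hv v hv).eq]
    rw [hexp] at h2
    refine eq_zero_of_add_self hp2 ?_
    have h3 : ρ u * c = c * ρ u := (hcen u hu v hv u hu).eq.symm
    calc c * c + c * c = c * (ρ u * ρ v - ρ v * ρ u) + c * (ρ u * ρ v - ρ v * ρ u) := by rw [← hc]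
      _ = ((c * ρ u) * ρ v + (c * ρ u) * ρ v) - (c * ρ v + c * ρ v) * ρ u := by noncomm_ring
      _ = ((ρ u * c) * ρ v + (ρ u * c) * ρ v) - ρ u * (c * ρ v + c * ρ v) := by rw [h3, h2]
      _ = 0 := by noncomm_ring
  set R := Subring.centralizer {c | ∃ u ∈ K, ∃ v ∈ K, c = ρ u * ρ v - ρ v * ρ u} with hR
  have hKR : ∀ w ∈ K, ρ w ∈ R := fun w hw => Subring.mem_centralizer_iff.2 fun c ⟨u, hu, v, hv, e⟩ =>
    e ▸ (hcen u hu v hv w hw).eq
  let Q : Module.End (ZMod p) V → Prop :=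
    fun y => y ∈ R ∧ ∀ r ∈ R, ∀ y' ∈ R, IsNilpotent y' → IsNilpotent (r * y + y')
  have Qadd : ∀ y z, Q y → Q z → Q (y + z) := fun y z hy hz => ⟨add_mem hy.1 hz.1, fun r hr y' hy' hn => by
    rw [mul_add, add_assoc]
    exact hy.2 r hr _ (add_mem (mul_mem hr hz.1) hy') (hz.2 r hr y' hy' hn)⟩
  have Qmul : ∀ x ∈ R, ∀ y, Q y → Q (x * y) := fun x hx y hy => ⟨mul_mem hx hy.1, fun r hr y' hy' hn => by
    rw [← mul_assoc]
    exact hy.2 _ (mul_mem hr hx) y' hy' hn⟩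
  let N : Subgroup G :=
    { carrier := {g | g ∈ K ∧ Q (ρ g - 1)}
      one_mem' := ⟨one_mem K, by simp [Q]⟩
      mul_mem' := fun {x y} hx hy => ⟨mul_mem hx.1 hy.1, by
        rw [show ρ (x * y) - 1 = ρ x * (ρ y - 1) + (ρ x - 1) by rw [map_mul]; noncomm_ring]
        exact Qadd _ _ (Qmul _ (hKR x hx.1) _ hy.2) hx.2⟩
      inv_mem' := fun {x} hx => ⟨inv_mem hx.1, by
        rw [show ρ x⁻¹ - 1 = -ρ x⁻¹ * (ρ x - 1) by rw [mul_sub, neg_mul, rho_inv_mul]; noncomm_ring]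
        exact Qmul _ (neg_mem (hKR _ (inv_mem hx.1))) _ hx.2⟩ }
  have hle : K ≤ N := le_of_commutators S.perfect fun u hu v hv => by
    refine ⟨by rw [commutatorElement_def]; exact mul_mem (mul_mem (mul_mem hu hv) (inv_mem hu)) (inv_mem hv), ?_⟩
    set c := ρ u * ρ v - ρ v * ρ u with hc
    set r := ρ u⁻¹ * ρ v⁻¹
    have hcu : ∀ z ∈ R, Commute z c := fun z hz =>
      (Subring.mem_centralizer_iff.1 hz c ⟨u, hu, v, hv, hc⟩).symm
    have hrR : r ∈ R := mul_mem (hKR _ (inv_mem hu)) (hKR _ (inv_mem hv))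
    have heq : ρ ⁅u, v⁆ - 1 = r * c := by
      rw [(hcu r hrR).eq, hc, sub_mul, commutatorElement_def, map_mul, map_mul, map_mul,
        show ρ v * ρ u * r = ρ v * ((ρ u * ρ u⁻¹) * ρ v⁻¹) by simp only [r, mul_assoc],
        rho_mul_inv, one_mul, rho_mul_inv]
      simp only [r, mul_assoc]
    rw [heq]
    have hcR : c ∈ R := sub_mem (mul_mem (hKR u hu) (hKR v hv)) (mul_mem (hKR v hv) (hKR u hu))
    refine ⟨mul_mem hrR hcR, fun x hx y' hy' ⟨n, hn⟩ => ?_⟩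
    rw [← mul_assoc]
    have hxR : x * r ∈ R := mul_mem hx hrR
    set z := x * r
    have hpow : ∀ m, ∃ s ∈ R, (z * c + y') ^ m = y' ^ m + s * c := by
      intro m
      induction m with
      | zero => exact ⟨0, zero_mem R, by simp⟩
      | succ m ih =>
        obtain ⟨s, hs, hse⟩ := ih
        refine ⟨y' ^ m * z + s * c * z + s * y', add_mem (add_mem (mul_mem (pow_mem hy' m) hxR)
          (mul_mem (mul_mem hs hcR) hxR)) (mul_mem hs hy'), ?_⟩
        rw [pow_succ, hse, pow_succ]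
        calc (y' ^ m + s * c) * (z * c + y')
            = y' ^ m * y' + (y' ^ m * z * c + s * c * z * c + s * (c * y')) := by noncomm_ring
          _ = y' ^ m * y' + (y' ^ m * z * c + s * c * z * c + s * (y' * c)) := by rw [(hcu y' hy').eq]
          _ = _ := by noncomm_ring
    obtain ⟨s, hs, hse⟩ := hpow n
    refine ⟨n * 2, ?_⟩
    rw [pow_mul, hse, hn, zero_add, sq, mul_assoc s, ← mul_assoc c, ← (hcu s hs).eq, mul_assoc s c,
      hsq u hu v hv, mul_zero, mul_zero]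
  refine eq_one_of_unipotent ρ S.perfect fun u hu => ?_
  have := (hle hu).2.2 1 (one_mem R) 0 (zero_mem R) IsNilpotent.zero
  rwa [one_mul, add_zero] at this

omit [Finite V] in
theorem mul_pow_sub_one_eq_zero {a : G} {X : Module.End (ZMod p) V} (h : X * (ρ a - 1) = 0) :
    ∀ j, X * (ρ (a ^ j) - 1) = 0
  | 0 => by simp
  | j + 1 => by
    have hj := mul_pow_sub_one_eq_zero h j
    rw [pow_succ, map_mul,
      show X * (ρ (a ^ j) * ρ a - 1) = X * (ρ (a ^ j) - 1) * ρ a + X * (ρ a - 1) by noncomm_ring,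
      hj, h, zero_mul, zero_add]

omit hp in
theorem conj_orbitProd_of_mem {a : G} (hs : Spread p a K) {u w : G} (hu : u ∈ K) (hw : w ∈ K) :
    ∀ n < p, w * orbitProd a u (n + 1) * w⁻¹ = ⁅w, u⁆ * orbitProd a u (n + 1)
  | 0, _ => by simp [orbitProd, commutatorElement_def]
  | n + 1, hn => by
    have ih := conj_orbitProd_of_mem hs hu hw n (by omega)
    have hc : Commute w (a ^ (n + 1) * u * (a ^ (n + 1))⁻¹) := by
      simpa using hs 0 (by omega) (n + 1) hn (by omega) w hw u hu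
    show w * (orbitProd a u (n + 1) * _) * w⁻¹ = ⁅w, u⁆ * (orbitProd a u (n + 1) * _)
    rw [← mul_assoc ⁅w, u⁆, ← ih]
    set x := a ^ (n + 1) * u * (a ^ (n + 1))⁻¹
    calc w * (orbitProd a u (n + 1) * x) * w⁻¹
        = (w * orbitProd a u (n + 1) * w⁻¹) * ((w * x) * w⁻¹) := by group
      _ = w * orbitProd a u (n + 1) * w⁻¹ * x := by rw [hc.eq, mul_inv_cancel_right]

omit [Finite V] in
/-- For a mover with a normalising partner, `[V, K₁]` is killed by `K`. -/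
theorem mul_eq_zero_of_odd (S : Setup p A K) (hp2 : p ≠ 2) {a b : G} (ha : a ∈ A) (hb : b ∈ A)
    (han : a ∉ normalizer (K : Set G)) (hbn : b ∈ normalizer (K : Set G))
    (hnc : ¬ ∀ u ∈ K, Commute u b) (hab : (ρ b - 1) * (ρ a - 1) = 0)
    {u₀ : G} (hu₀ : u₀ ∈ K) (hu₀c : ¬ ∀ v ∈ K, Commute v u₀) :
    ∀ l ∈ K, ∀ k ∈ K, (ρ (a * l * a⁻¹) - 1) * (ρ k - 1) = 0 := by
  have h2p : 2 < p := lt_of_le_of_ne hp.out.two_le (Ne.symm hp2)
  have hs := S.spread ha han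
  have hn := Subgroup.le_normalizer (H := K) hu₀
  set d := orbitProd a u₀ p
  have hd : d ∈ fixT ρ a := S.orbitProd_mem_of_normalizer ha han hbn (S.comm b hb a ha) hnc (fixT ρ a)
    (fun g hg h hh => fixT_conj ρ hg hh) (mem_fixT_of_quad ρ (S.comm b hb a ha) hab) u₀ hu₀
  have hdu : Commute (ρ u₀) (ρ d) := by
    refine rho_commute ρ (commute_orbitProd p fun i hi => ?_)
    rcases Nat.eq_zero_or_pos i with rfl | hi0
    · simp
    · simpa using hs 0 (by omega) i hi (by omega) u₀ hu₀ u₀ hu₀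
  have hd0 : (ρ d - 1) * (ρ a - 1) = 0 := by rw [sub_mul, one_mul, hd.1, sub_self]
  have hdj : ∀ j, (ρ d - 1) * (ρ (a ^ j * u₀ * (a ^ j)⁻¹) - ρ u₀) = 0 := by
    intro j
    have h1 := sub_eq_zero.1 (show (ρ d - 1) * ρ (a ^ j) - (ρ d - 1) = 0 by
      rw [← mul_sub_one]; exact mul_pow_sub_one_eq_zero ρ hd0 j)
    have h2 : (ρ d - 1) * ρ (a ^ j)⁻¹ = ρ d - 1 := by
      conv_lhs => rw [← h1, mul_assoc, rho_mul_inv, mul_one]
    rw [mul_sub, map_mul, map_mul, ← mul_assoc, ← mul_assoc, h1,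
      (hdu.symm.sub_left (Commute.one_left _)).eq, mul_assoc, h2, sub_self]
  -- the elements `g = a⁅w,u₀⁆a⁻¹`
  have hg : ∀ w ∈ K, ∀ k ∈ K, (ρ (a * ⁅w, u₀⁆ * a⁻¹) - 1) * (ρ k - 1) = 0 := by
    intro w hw
    set g := a * ⁅w, u₀⁆ * a⁻¹ with hgdef
    have hwu : ⁅w, u₀⁆ ∈ K := commutator_mem_of_mem_normalizer hn hw
    set X := ρ (a ^ 2 * u₀ * (a ^ 2)⁻¹) - ρ u₀ with hX
    have hwX : Commute (ρ (a * w * a⁻¹)) X := by
      refine (rho_commute ρ ?_).sub_right (rho_commute ρ (S.commute_conj ha han u₀ hu₀ w hw).symm)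
      simpa using hs 1 (by omega) 2 h2p (by omega) w hw u₀ hu₀
    have hwX' : Commute (ρ (a * w * a⁻¹)⁻¹) X := by
      refine (rho_commute ρ ?_).sub_right
        (rho_commute ρ (S.commute_conj ha han u₀ hu₀ w hw).symm.inv_left)
      exact Commute.inv_left (by simpa using hs 1 (by omega) 2 h2p (by omega) w hw u₀ hu₀)
    have hdX : (ρ d - 1) * X = 0 := hdj 2
    have hgd : ρ g * ρ d = ρ (a * w * a⁻¹) * ρ d * ρ (a * w * a⁻¹)⁻¹ := by
      rw [← map_mul, ← map_mul, ← map_mul]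
      congr 1
      have had : a * d = d * a := (hs.commute_orbitProd_self hp.out.one_lt (S.exp a ha) hu₀).eq
      have hc : w * d * w⁻¹ = ⁅w, u₀⁆ * d := by
        obtain ⟨m, hm⟩ : ∃ m, p = m + 1 := ⟨p - 1, by omega⟩
        have := conj_orbitProd_of_mem hs hu₀ hw m (by omega)
        rwa [← hm] at this
      have hdd : d = a⁻¹ * d * a := by rw [mul_assoc, ← had, inv_mul_cancel_left]
      calc g * d = a * ⁅w, u₀⁆ * (a⁻¹ * d * a) * a⁻¹ := by rw [hgdef]; group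
        _ = a * (w * d * w⁻¹) * a⁻¹ := by rw [← hdd, hc]; group
        _ = a * (w * (a⁻¹ * d * a) * w⁻¹) * a⁻¹ := by rw [← hdd]
        _ = _ := by group
    have hgX : (ρ g - 1) * X = 0 := by
      have h1 : ρ d * X = X := sub_eq_zero.1 (by rw [← hdX]; noncomm_ring)
      have h2 : ρ g * ρ d * X = X := by
        rw [hgd, mul_assoc, hwX'.eq, ← mul_assoc, mul_assoc _ (ρ d), h1, hwX.eq,
          mul_assoc, rho_mul_inv, mul_one]
      rw [sub_mul, one_mul]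
      conv_lhs => arg 1; rw [← h1, ← mul_assoc, h2]
      exact sub_self _
    -- conjugate by elements of `K`
    have hcx : ∀ x ∈ K, (ρ g - 1) * (ρ ⁅x, u₀⁆ - 1) = 0 := by
      intro x hx
      have hxg : Commute (ρ x) (ρ g - 1) :=
        (rho_commute ρ (S.commute_conj ha han x hx _ hwu)).sub_right (Commute.one_right _)
      have hxu2 : Commute (ρ x) (ρ (a ^ 2 * u₀ * (a ^ 2)⁻¹)) := by
        refine rho_commute ρ ?_
        simpa using hs 0 (by omega) 2 h2p (by omega) x hx u₀ hu₀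
      have h3 : ρ x * X * ρ x⁻¹ = ρ (a ^ 2 * u₀ * (a ^ 2)⁻¹) - ρ (x * u₀ * x⁻¹) := by
        rw [hX, mul_sub, sub_mul, hxu2.eq, mul_assoc _ (ρ x), rho_mul_inv, mul_one, map_mul _ _ x⁻¹,
          map_mul _ x u₀]
      have h4 : (ρ g - 1) * (ρ x * X * ρ x⁻¹) = 0 := by
        rw [← mul_assoc, ← mul_assoc, ← hxg.eq, mul_assoc (ρ x), hgX, mul_zero, zero_mul]
      have h5 : ρ ⁅x, u₀⁆ - 1 = (X - ρ x * X * ρ x⁻¹) * ρ u₀⁻¹ := by
        rw [h3, hX, commutatorElement_def, map_mul _ (x * u₀ * x⁻¹), sub_sub_sub_cancel_left, sub_mul,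
          rho_mul_inv]
      rw [h5, ← mul_assoc, mul_sub, hgX, h4, sub_zero, zero_mul]
    intro k hk
    let N : Subgroup G :=
      { carrier := {k | k ∈ K ∧ (ρ g - 1) * (ρ k - 1) = 0}
        one_mem' := ⟨one_mem K, by simp⟩
        mul_mem' := fun {x y} hx hy => ⟨mul_mem hx.1 hy.1, by
          rw [map_mul _ x y, show (ρ g - 1) * (ρ x * ρ y - 1)
            = (ρ g - 1) * (ρ x - 1) * ρ y + (ρ g - 1) * (ρ y - 1) by noncomm_ring, hx.2, hy.2, zero_mul,
            zero_add]⟩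
        inv_mem' := fun {x} hx => ⟨inv_mem hx.1, by
          rw [show ρ x⁻¹ - 1 = -((ρ x - 1) * ρ x⁻¹) by rw [sub_mul, rho_mul_inv]; noncomm_ring, mul_neg,
            ← mul_assoc, hx.2, zero_mul, neg_zero]⟩ }
    have hN : N = K := by
      refine S.eq_of_commutator_mem hn hu₀c (fun x hx => hx.1) (fun x hx n hn' => ⟨?_, ?_⟩)
        fun x hx => ⟨commutator_mem_of_mem_normalizer hn hx, hcx x hx⟩
      · exact mul_mem (mul_mem hx hn'.1) (inv_mem hx)
      · have hxg : Commute (ρ x) (ρ g - 1) :=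
          (rho_commute ρ (S.commute_conj ha han x hx _ hwu)).sub_right (Commute.one_right _)
        rw [show ρ (x * n * x⁻¹) - 1 = ρ x * (ρ n - 1) * ρ x⁻¹ by
          rw [mul_sub, sub_mul, mul_one, rho_mul_inv, map_mul, map_mul], ← mul_assoc, ← mul_assoc,
          ← hxg.eq, mul_assoc (ρ x), hn'.2, mul_zero, zero_mul]
    exact (show k ∈ N from hN.symm ▸ hk).2
  intro l hl
  let L : Subgroup G :=
    { carrier := {l | l ∈ K ∧ ∀ k ∈ K, (ρ (a * l * a⁻¹) - 1) * (ρ k - 1) = 0}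
      one_mem' := ⟨one_mem K, by simp⟩
      mul_mem' := fun {x y} hx hy => ⟨mul_mem hx.1 hy.1, fun k hk => by
        rw [show a * (x * y) * a⁻¹ = (a * x * a⁻¹) * (a * y * a⁻¹) by group, map_mul,
          show (ρ (a * x * a⁻¹) * ρ (a * y * a⁻¹) - 1) * (ρ k - 1)
            = ρ (a * x * a⁻¹) * ((ρ (a * y * a⁻¹) - 1) * (ρ k - 1))
              + (ρ (a * x * a⁻¹) - 1) * (ρ k - 1) by noncomm_ring, hx.2 k hk, hy.2 k hk, mul_zero,
          zero_add]⟩
      inv_mem' := fun {x} hx => ⟨inv_mem hx.1, fun k hk => by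
        rw [show a * x⁻¹ * a⁻¹ = (a * x * a⁻¹)⁻¹ by group,
          show ρ (a * x * a⁻¹)⁻¹ - 1 = -(ρ (a * x * a⁻¹)⁻¹ * (ρ (a * x * a⁻¹) - 1)) by
            rw [mul_sub, rho_inv_mul]; noncomm_ring, neg_mul, mul_assoc, hx.2 k hk, mul_zero, neg_zero]⟩ }
  have hL : L = K := by
    refine S.eq_of_commutator_mem hn hu₀c (fun x hx => hx.1) (fun x hx n hn' => ⟨?_, fun k hk => ?_⟩)
      fun x hx => ⟨commutator_mem_of_mem_normalizer hn hx, hg x hx⟩
    · exact mul_mem (mul_mem hx hn'.1) (inv_mem hx)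
    · have hxk : Commute (ρ (a * x * a⁻¹)⁻¹) (ρ k - 1) :=
        ((rho_commute ρ (S.commute_conj ha han k hk x hx).symm.inv_left)).sub_right (Commute.one_right _)
      rw [show a * (x * n * x⁻¹) * a⁻¹ = (a * x * a⁻¹) * (a * n * a⁻¹) * (a * x * a⁻¹)⁻¹ by group,
        show ρ ((a * x * a⁻¹) * (a * n * a⁻¹) * (a * x * a⁻¹)⁻¹) - 1
          = ρ (a * x * a⁻¹) * (ρ (a * n * a⁻¹) - 1) * ρ (a * x * a⁻¹)⁻¹ by
          rw [mul_sub, sub_mul, mul_one, rho_mul_inv, map_mul, map_mul],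
        mul_assoc, hxk.eq, ← mul_assoc, mul_assoc _ _ (ρ k - 1), hn'.2 k hk, mul_zero, zero_mul]
  exact (show l ∈ L from hL.symm ▸ hl).2

/-- A mover with a normalising, non-centralising partner is impossible for odd primes. -/
theorem eq_one_of_normalizer_odd (S : Setup p A K) (hp2 : p ≠ 2) {a b : G} (ha : a ∈ A) (hb : b ∈ A)
    (han : a ∉ normalizer (K : Set G)) (hbn : b ∈ normalizer (K : Set G))
    (hnc : ¬ ∀ u ∈ K, Commute u b) (hab : (ρ b - 1) * (ρ a - 1) = 0) : ∀ u ∈ K, ρ u = 1 := by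
  by_cases hK : ∀ u ∈ K, ∀ v ∈ K, Commute v u
  · exact eq_one_of_commute ρ S.perfect fun u hu v hv => rho_commute ρ (hK v hv u hu)
  push Not at hK
  obtain ⟨u₀, hu₀, hu₀c'⟩ := hK
  have hu₀c : ¬ ∀ v ∈ K, Commute v u₀ := fun h => by obtain ⟨v, hv, hne⟩ := hu₀c'; exact hne (h v hv)
  have hs := S.spread ha han
  have hY : ∀ j, 0 < j → j < p → ∀ l ∈ K, ∀ k ∈ K,
      (ρ k - 1) * (ρ (a ^ j * l * (a ^ j)⁻¹) - 1) = 0 := by
    intro j hj hjp l hl k hk
    have hjn := S.pow_not_mem_normalizer ha han hj hjp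
    have h := mul_eq_zero_of_odd ρ S hp2 (pow_mem ha j) hb hjn hbn hnc
      (mul_pow_sub_one_eq_zero ρ hab j) hu₀ hu₀c l hl k hk
    rwa [(sub_one_comm ρ (S.commute_conj (pow_mem ha j) hjn k hk l hl).symm).eq] at h
  refine eq_one_of_unipotent ρ S.perfect fun u hu => ⟨3, ?_⟩
  set Y := ρ u - 1 with hYd
  have hYp : ∀ n < p, Y * ρ (orbitProd a u (n + 1)) = Y * ρ u := by
    intro n
    induction n with
    | zero => intro; simp [orbitProd]
    | succ n ih =>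
      intro hn
      have h1 : Y * ρ (a ^ (n + 1) * u * (a ^ (n + 1))⁻¹) = Y := by
        refine sub_eq_zero.1 ?_
        rw [← mul_sub_one]; exact hY (n + 1) (by omega) hn u hu u hu
      have hc : Commute (ρ u) (ρ (a ^ (n + 1) * u * (a ^ (n + 1))⁻¹)) := by
        refine rho_commute ρ ?_
        simpa using hs 0 (by omega) (n + 1) hn (by omega) u hu u hu
      show Y * ρ (orbitProd a u (n + 1) * _) = _
      rw [map_mul, ← mul_assoc, ih (by omega), mul_assoc, hc.eq, ← mul_assoc, h1]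
  have hd : orbitProd a u p ∈ fixT ρ a := S.orbitProd_mem_of_normalizer ha han hbn (S.comm b hb a ha) hnc
    (fixT ρ a) (fun g hg h hh => fixT_conj ρ hg hh) (mem_fixT_of_quad ρ (S.comm b hb a ha) hab) u hu
  obtain ⟨m, hm⟩ : ∃ m, p = m + 1 := ⟨p - 1, by have := hp.out.two_le; omega⟩
  have hYX : Y * Y * ρ a = Y * Y := by
    have h1 : Y * ρ u * (ρ a - 1) = Y * (ρ a - 1) := by
      rw [← hYp m (by omega), ← hm, mul_assoc, hd.1]
    refine sub_eq_zero.1 ?_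
    calc Y * Y * ρ a - Y * Y = Y * ρ u * (ρ a - 1) - Y * (ρ a - 1) := by rw [hYd]; noncomm_ring
      _ = 0 := sub_eq_zero.2 h1
  have h1j := hY 1 one_pos hp.out.one_lt u hu u hu
  rw [pow_one] at h1j
  have hswap : ρ a * Y = (ρ (a * u * a⁻¹) - 1) * ρ a := by
    rw [hYd, sub_mul, one_mul, rho_conj_mul, mul_sub, mul_one]
  calc Y ^ 3 = Y * Y * Y := by noncomm_ring
    _ = Y * Y * ρ a * Y := by rw [hYX]
    _ = Y * Y * ((ρ (a * u * a⁻¹) - 1) * ρ a) := by
        rw [mul_assoc (Y * Y), hswap]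
    _ = Y * (Y * (ρ (a * u * a⁻¹) - 1)) * ρ a := by simp only [mul_assoc]
    _ = 0 := by rw [hYd, h1j, mul_zero, zero_mul]

end CfsgLib.LocalEven.PGV
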