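import Cfsg.Agent.Lib.LocalEven.PGV.Replacement
import Cfsg.Agent.Lib.LocalEven.PGV.Odd
import Cfsg.Agent.Lib.LocalEven.PGV.Final
import Mathlib.LinearAlgebra.FiniteDimensional.Basic

/-!
The P(G,V) theorem: a best offender normalises every component that acts nontrivially.
-/

namespace CfsgLib.LocalEven.PGV

open Subgroup
open scoped commutatorElement

variable {G V : Type*} [Group G] [AddCommGroup V] {p : ℕ} [hp : Fact p.Prime]
  [Module (ZMod p) V] (ρ : Representation (ZMod p) G V) {A K : Subgroup G}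

theorem stable_all [Finite G] {U : Submodule (ZMod p) V} (hgen : A ⊔ K = ⊤)
    (hA : ∀ g ∈ A, ∀ v ∈ U, ρ g v ∈ U) (hK : ∀ g ∈ K, ∀ v ∈ U, ρ g v ∈ U) :
    ∀ g, ∀ v ∈ U, ρ g v ∈ U := by
  let St : Subgroup G :=
    { carrier := {g | (∀ v ∈ U, ρ g v ∈ U) ∧ ∀ v ∈ U, ρ g⁻¹ v ∈ U}
      one_mem' := ⟨fun v hv => by simpa using hv, fun v hv => by simpa using hv⟩
      mul_mem' := fun {x y} hx hy =>
        ⟨fun v hv => by rw [map_mul]; exact hx.1 _ (hy.1 v hv),
          fun v hv => by rw [mul_inv_rev, map_mul]; exact hy.2 _ (hx.2 v hv)⟩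
      inv_mem' := fun {x} hx => ⟨hx.2, fun v hv => by rw [inv_inv]; exact hx.1 v hv⟩ }
  have h : A ⊔ K ≤ St :=
    sup_le (fun g hg => ⟨hA g hg, hA _ (inv_mem hg)⟩) fun g hg => ⟨hK g hg, hK _ (inv_mem hg)⟩
  rw [hgen] at h
  exact fun g => (h (mem_top g)).1

theorem mem_center_of_centralize (S : Setup p A K) (hgen : A ⊔ K = ⊤) {y : G} (hy : y ∈ A)
    (hyc : ∀ k ∈ K, Commute y k) : ∀ g, Commute y g := by
  have h : A ⊔ K ≤ centralizer ({y} : Set G) := sup_le
    (fun g hg => mem_centralizer_singleton_iff.2 (S.comm g hg y hy).eq)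
    fun g hg => mem_centralizer_singleton_iff.2 (hyc g hg).symm.eq
  rw [hgen] at h
  exact fun g => (mem_centralizer_singleton_iff.1 (h (mem_top g))).symm

theorem eq_one_of_chain (hK : ⁅K, K⁆ = K) {U : Submodule (ZMod p) V}
    (h1 : ∀ k ∈ K, ∀ v ∈ U, ρ k v = v) (h2 : ∀ k ∈ K, ∀ v, ρ k v - v ∈ U) : ∀ u ∈ K, ρ u = 1 := by
  refine eq_one_of_commute ρ hK fun u hu w hw => LinearMap.ext fun v => ?_
  show ρ u (ρ w v) = ρ w (ρ u v)
  have e1 := h1 u hu _ (h2 w hw v)
  have e2 := h1 w hw _ (h2 u hu v)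
  rw [map_sub, sub_eq_iff_eq_add] at e1 e2
  rw [e1, e2]; abel

/-- `orbit products lie in fixT` for a pair of quadratic movers. -/
theorem mul_mem_fixT_of_quad {V : Type*} [AddCommGroup V] [Module (ZMod 2) V] (S : Setup 2 A K)
    (σ : Representation (ZMod 2) G V)
    {a c : G} (ha : a ∈ A) (hc : c ∈ A) (han : a ∉ normalizer (K : Set G))
    (hcn : c ∉ normalizer (K : Set G)) (hacn : a * c ∉ normalizer (K : Set G))
    (hq : (σ c - 1) * (σ a - 1) = 0) : ∀ u ∈ K, u * (a * u * a⁻¹) ∈ fixT σ a := by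
  have hs := S.spread ha han
  have haa : a * a = 1 := by rw [← pow_two]; exact S.exp a ha
  have hai : a⁻¹ = a := inv_eq_of_mul_eq_one_right haa
  have hd : ∀ u ∈ K, Commute (orbitProd a u 2) a := fun u hu =>
    (hs.commute_orbitProd_self one_lt_two (S.exp a ha) hu).symm
  have hcH : c ∈ fixT σ a := mem_fixT_of_quad σ (S.comm c hc a ha) hq
  have hcomm : ∀ u ∈ K, ∀ v ∈ K, Commute (orbitProd a v 2) (c * orbitProd a u 2 * c⁻¹) := by
    intro u hu v hv
    rw [conj_orbitProd (S.comm c hc a ha), orbitProd_two, orbitProd_two]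
    have hcan : c * a ∉ normalizer (K : Set G) := by rwa [(S.comm c hc a ha).eq]
    have e : a * (c * u * c⁻¹) * a⁻¹ = (c * a) * u * (c * a)⁻¹ := by
      rw [(S.comm c hc a ha).eq]; group
    rw [e]
    refine Commute.mul_left (Commute.mul_right ?_ ?_) (Commute.mul_right ?_ ?_)
    · exact S.commute_conj hc hcn v hv u hu
    · exact S.commute_conj (mul_mem hc ha) hcan v hv u hu
    · exact S.commute_conj_conj ha hc (by rwa [hai]) v hv u hu
    · refine S.commute_conj_conj ha (mul_mem hc ha) ?_ v hv u hu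
      rw [hai, (S.comm c hc a ha).eq, ← mul_assoc, haa, one_mul]; exact hcn
  have hle : K ≤ orbitPre hs (fixT σ a) := le_of_commutators S.perfect fun v hv u hu => by
    refine ⟨commutator_mem_of_mem_normalizer (Subgroup.le_normalizer hu) hv, ?_⟩
    rw [commutatorElement_def, hs.orbitProd_mul (mul_mem (mul_mem hv hu) (inv_mem hv)) (inv_mem hu) 2 le_rfl,
      hs.orbitProd_mul (mul_mem hv hu) (inv_mem hv) 2 le_rfl, hs.orbitProd_mul hv hu 2 le_rfl,
      hs.orbitProd_inv hv, hs.orbitProd_inv hu]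
    set du := orbitProd a u 2
    set dv := orbitProd a v 2
    have hz : Commute dv⁻¹ (c * du⁻¹ * c⁻¹) := by
      rw [show c * du⁻¹ * c⁻¹ = (c * du * c⁻¹)⁻¹ by group]
      exact (hcomm u hu v hv).inv_inv
    have he : du * (c * du⁻¹ * c⁻¹) ∈ fixT σ a := by
      rw [show du * (c * du⁻¹ * c⁻¹) = (du * c * du⁻¹) * c⁻¹ by group]
      exact mul_mem (fixT_conj σ (hd u hu) hcH) (inv_mem hcH)
    have h := mul_mem (fixT_conj σ (hd v hv) he) (inv_mem he)
    set z := c * du⁻¹ * c⁻¹
    rw [show dv * (du * z) * dv⁻¹ * (du * z)⁻¹ = dv * du * (z * dv⁻¹) * z⁻¹ * du⁻¹ by group, ← hz.eq,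
      ← mul_assoc, mul_inv_cancel_right] at h
    exact h
  intro u hu
  rw [← orbitProd_two]
  exact (hle hu).2

variable [Finite V] [Finite G]

omit [Finite G] in
/-- Elements of `A` acting trivially on a nontrivial section and centralising `K` act trivially. -/
theorem eq_one_of_kills_section (S : Setup p A K) (hgen : A ⊔ K = ⊤)
    (hmin : ∀ U : Submodule (ZMod p) V, (∀ g, ∀ v ∈ U, ρ g v ∈ U) → U ≠ ⊤ → ∀ k ∈ K, ∀ v ∈ U, ρ k v = v)
    (hne : ¬ ∀ u ∈ K, ρ u = 1) {W0 : Submodule (ZMod p) V} (hW0 : ∀ k ∈ K, ∀ v ∈ W0, ρ k v = v)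
    {y : G} (hy : y ∈ A) (hyc : ∀ k ∈ K, Commute y k) (hyW : ∀ v, ρ y v - v ∈ W0) : ρ y = 1 := by
  have hz := mem_center_of_centralize S hgen hy hyc
  set N := ρ y - 1 with hN
  have hNg : ∀ g v, N (ρ g v) = ρ g (N v) := fun g v => by
    rw [← Module.End.mul_apply, ← Module.End.mul_apply,
      ((rho_commute ρ (hz g)).sub_left (Commute.one_left _)).eq]
  by_contra hy1
  have hker : LinearMap.ker N ≠ ⊤ := fun h => hy1 (sub_eq_zero.1 (LinearMap.ker_eq_top.1 h))
  have hfix := hmin (LinearMap.ker N)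
    (fun g v hv => by rw [LinearMap.mem_ker, hNg, LinearMap.mem_ker.1 hv, map_zero]) hker
  refine hne (eq_one_of_chain ρ S.perfect hfix fun k hk v => ?_)
  rw [LinearMap.mem_ker, map_sub, hNg]
  have h : N v ∈ W0 := by simpa [hN] using hyW v
  rw [hW0 k hk _ h, sub_self]

omit [Finite G] in
theorem eq_one_of_quad_of_top [Finite G] (hcomm : ∀ x ∈ A, ∀ y ∈ A, Commute x y) (hexp : ∀ x ∈ A, x ^ p = 1)
    (h : comSpan ρ A Set.univ ⊔ fixSub ρ A = ⊤) : fixSub ρ A = ⊤ := by
  classical
  have := Fintype.ofFinite G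
  let X : Finset G → Submodule (ZMod p) V := fun s => fixSub ρ A ⊔ ⨆ c ∈ s, LinearMap.range (ρ c - 1)
  suffices key : ∀ s : Finset G, (∀ c ∈ s, c ∈ A) → X s = ⊤ → fixSub ρ A = ⊤ by
    refine key (Finset.univ.filter (· ∈ A)) (fun c hc => (Finset.mem_filter.1 hc).2) (eq_top_iff.2 ?_)
    rw [← h]
    refine sup_le (Submodule.span_le.2 ?_) le_sup_left
    rintro _ ⟨c, hc, u, _, rfl⟩
    exact Submodule.mem_sup_right (Submodule.mem_iSup_of_mem c (Submodule.mem_iSup_of_mem
      (Finset.mem_filter.2 ⟨Finset.mem_univ _, hc⟩) ⟨u, rfl⟩))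
  intro s
  induction s using Finset.induction with
  | empty =>
    intro _ h
    simpa [X] using h
  | insert c s _ ih =>
    intro hs hX
    refine ih (fun d hd => hs d (Finset.mem_insert_of_mem hd)) ?_
    have hc : c ∈ A := hs c (Finset.mem_insert_self c s)
    set N := ρ c - 1 with hN
    have hX' : X s ⊔ LinearMap.range N = ⊤ := by
      rw [← hX]
      simp only [X, Finset.iSup_insert, hN]
      rw [sup_comm (LinearMap.range (ρ c - 1)), ← sup_assoc]
    have hNX : ∀ v ∈ X s, N v ∈ X s := by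
      intro v hv
      refine (sup_le ?_ (iSup₂_le fun d hd => ?_) : X s ≤ (X s).comap N) hv
      · intro w hw
        have : N w = 0 := by simp [hN, hw c hc]
        rw [Submodule.mem_comap, this]; exact zero_mem _
      · rintro _ ⟨w, rfl⟩
        rw [Submodule.mem_comap, ← Module.End.mul_apply, hN,
          (sub_one_comm ρ (hcomm c hc d (hs d (Finset.mem_insert_of_mem hd)))).eq]
        exact Submodule.mem_sup_right (Submodule.mem_iSup_of_mem d (Submodule.mem_iSup_of_mem hd ⟨_, rfl⟩))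
    have hpow : ∀ i, ∀ v, ∃ w, v - (N ^ i) w ∈ X s := by
      intro i
      induction i with
      | zero => exact fun v => ⟨v, by simp⟩
      | succ i ih =>
        intro v
        obtain ⟨x, hx, y, ⟨w, hw⟩, hv⟩ := Submodule.mem_sup.1 (hX'.ge (Submodule.mem_top (x := v)))
        obtain ⟨w', hw'⟩ := ih w
        refine ⟨w', ?_⟩
        rw [← hv, ← hw, pow_succ', Module.End.mul_apply, add_sub_assoc, ← map_sub]
        exact add_mem hx (hNX _ hw')
    have hnil : N ^ p = 0 := by
      obtain ⟨r, hr⟩ := (Commute.one_right N).exists_add_pow_prime_eq hp.out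
      rw [show N + 1 = ρ c by rw [hN, sub_add_cancel], ← map_pow, hexp c hc, map_one, one_pow,
        natCast_self_eq_zero, zero_mul, zero_mul, zero_mul, add_zero] at hr
      exact add_eq_right.1 hr.symm
    refine eq_top_iff.2 fun v _ => ?_
    obtain ⟨w, hw⟩ := hpow p v
    simpa [hnil] using hw

/-- The action on a quotient by an invariant submodule. -/
def quotRep (W0 : Submodule (ZMod p) V) (h : ∀ g, ∀ v ∈ W0, ρ g v ∈ W0) :
    Representation (ZMod p) G (V ⧸ W0) where
  toFun g := W0.mapQ W0 (ρ g) (h g)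
  map_one' := Submodule.linearMap_qext _ (LinearMap.ext fun v => by simp)
  map_mul' x y := Submodule.linearMap_qext _ (LinearMap.ext fun v => by simp)

omit [Finite V] [Finite G] in
theorem quotRep_mk (W0 : Submodule (ZMod p) V) (h : ∀ g, ∀ v ∈ W0, ρ g v ∈ W0) (g : G) (v : V) :
    quotRep ρ W0 h g (Submodule.Quotient.mk v) = Submodule.Quotient.mk (ρ g v) := rfl

theorem card_eq_range_mul_ker {H M : Type*} [Group H] [Group M] (f : H →* M) (B : Subgroup H) :
    Nat.card B = Nat.card (B.map f) * Nat.card ↥(B ⊓ f.ker) := by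
  rw [Subgroup.card_eq_card_quotient_mul_card_subgroup (f.comp B.subtype).ker,
    Nat.card_congr (QuotientGroup.quotientKerEquivRange (f.comp B.subtype)).toEquiv,
    MonoidHom.range_comp, range_subtype]
  congr 1
  exact Nat.card_congr
    { toFun := fun x => ⟨x.1.1, x.1.2, x.2⟩
      invFun := fun x => ⟨⟨x.1, x.2.1⟩, x.2.2⟩
      left_inv := fun _ => rfl
      right_inv := fun _ => rfl }

/-- The theorem for a minimal module. -/
theorem eq_one_of_minimal (S : Setup p A K) (hgen : A ⊔ K = ⊤)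
    (hmin : ∀ U : Submodule (ZMod p) V, (∀ g, ∀ v ∈ U, ρ g v ∈ U) → U ≠ ⊤ → ∀ k ∈ K, ∀ v ∈ U, ρ k v = v)
    (hmax : ∀ B ≤ A, offV ρ B ≤ offV ρ A) {a : G} (ha : a ∈ A) (han : a ∉ normalizer (K : Set G)) :
    ∀ u ∈ K, ρ u = 1 := by
  classical
  by_contra hne
  have := Fintype.ofFinite V
  obtain ⟨hX, hoff⟩ := replacement ρ S.comm hmax (Finset.univ : Finset V)
  rw [Finset.coe_univ] at hX hoff
  set As := centAt ρ A (Set.univ : Set V) with hAs
  have hAsA : As ≤ A := centAt_le ρ A _
  have hq : ∀ x ∈ As, ∀ c ∈ A, (ρ x - 1) * (ρ c - 1) = 0 := fun x hx c hc => LinearMap.ext fun v => by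
    rw [Module.End.mul_apply, LinearMap.sub_apply (ρ x), hx.2 c hc v trivial, Module.End.one_apply,
      sub_self, LinearMap.zero_apply]
  have hq' : ∀ x ∈ As, ∀ c ∈ A, (ρ c - 1) * (ρ x - 1) = 0 := fun x hx c hc => by
    rw [(sub_one_comm ρ (S.comm c hc x (hAsA hx))).eq]; exact hq x hx c hc
  -- the largest proper invariant submodule
  let W0 : Submodule (ZMod p) V :=
    { carrier := {v | ∀ g, ∀ k ∈ K, ρ (g * k * g⁻¹) v = v}
      add_mem' := fun hv hw g k hk => by rw [map_add, hv g k hk, hw g k hk]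
      zero_mem' := fun g k _ => map_zero _
      smul_mem' := fun r v hv g k hk => by rw [map_smul, hv g k hk] }
  have hW0 : ∀ g, ∀ v ∈ W0, ρ g v ∈ W0 := fun g v hv h k hk => by
    rw [← Module.End.mul_apply, ← map_mul, show h * k * h⁻¹ * g = g * ((g⁻¹ * h) * k * (g⁻¹ * h)⁻¹) by group,
      map_mul, Module.End.mul_apply, hv (g⁻¹ * h) k hk]
  have hW0K : ∀ k ∈ K, ∀ v ∈ W0, ρ k v = v := fun k hk v hv => by simpa using hv 1 k hk
  have hsub : ∀ U : Submodule (ZMod p) V, (∀ g, ∀ v ∈ U, ρ g v ∈ U) → U ≠ ⊤ → U ≤ W0 :=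
    fun U hU hUt v hv g k hk => by
      rw [map_mul, map_mul, Module.End.mul_apply, Module.End.mul_apply, hmin U hU hUt k hk _ (hU _ v hv),
        ← Module.End.mul_apply, rho_mul_inv, Module.End.one_apply]
  -- centralising elements of `A` act trivially on the top section
  have hcentW : ∀ y ∈ A, (∀ k ∈ K, Commute y k) → ∀ v, ρ y v - v ∈ W0 := by
    intro y hy hyc
    have hz := mem_center_of_centralize S hgen hy hyc
    set N := ρ y - 1 with hN
    have hNg : ∀ g v, N (ρ g v) = ρ g (N v) := fun g v => by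
      rw [← Module.End.mul_apply, ← Module.End.mul_apply,
        ((rho_commute ρ (hz g)).sub_left (Commute.one_left _)).eq]
    have hUinv : ∀ g, ∀ v ∈ W0.comap N, ρ g v ∈ W0.comap N := fun g v hv => by
      rw [Submodule.mem_comap, hNg]; exact hW0 g _ hv
    by_cases hU : W0.comap N = ⊤
    · intro v
      have : v ∈ W0.comap N := hU.ge Submodule.mem_top
      simpa [hN] using this
    exfalso
    have hle := hsub _ hUinv hU
    have hnil : N ^ p = 0 := by
      obtain ⟨r, hr⟩ := (Commute.one_right N).exists_add_pow_prime_eq hp.out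
      rw [show N + 1 = ρ y by rw [hN, sub_add_cancel], ← map_pow, S.exp y hy, map_one, one_pow,
        natCast_self_eq_zero, zero_mul, zero_mul, zero_mul, add_zero] at hr
      exact add_eq_right.1 hr.symm
    have hall : ∀ i, ∀ v, (N ^ i) v ∈ W0 → v ∈ W0 := by
      intro i
      induction i with
      | zero => intro v hv; simpa using hv
      | succ i ih =>
        intro v hv
        rw [pow_succ, Module.End.mul_apply] at hv
        exact hle (ih _ hv)
    exact hne (fun u hu => LinearMap.ext fun v =>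
      hW0K u hu v (hall p v (by rw [hnil]; exact zero_mem W0)))
  have hcent1 : ∀ y ∈ A, (∀ k ∈ K, Commute y k) → ρ y = 1 := fun y hy hyc =>
    eq_one_of_kills_section ρ S hgen hmin hne hW0K hy hyc (hcentW y hy hyc)
  by_cases hII : ∃ b ∈ As, b ∈ normalizer (K : Set G) ∧ ¬ ∀ u ∈ K, Commute u b
  · -- a normalising, non-centralising quadratic element
    obtain ⟨b, hb, hbn, hnc⟩ := hII
    rcases eq_or_ne p 2 with rfl | hp2
    swap
    · exact hne (eq_one_of_normalizer_odd ρ S hp2 ha (hAsA hb) han hbn hnc (hq b hb a ha))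
    have hA2 : ∀ x ∈ A, x * x = 1 := fun x hx => by rw [← pow_two]; exact S.exp x hx
    have hH : ∀ x ∈ A, x ∉ normalizer (K : Set G) → ∀ u ∈ K, u * (x * u * x⁻¹) ∈ fixT ρ x :=
      fun x hx hxn u hu => by
        rw [← orbitProd_two]
        exact S.orbitProd_mem_of_normalizer hx hxn hbn (S.comm b (hAsA hb) x hx) hnc (fixT ρ x)
          (fun g hg h hh => fixT_conj ρ hg hh)
          (mem_fixT_of_quad ρ (S.comm b (hAsA hb) x hx) (hq b hb x hx)) u hu
    by_cases h4 : ∃ c ∈ A, c ∉ normalizer (K : Set G) ∧ a * c ∉ normalizer (K : Set G)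
    · obtain ⟨c, hc, hcn, hacn⟩ := h4
      exact hne (eq_one_of_four ρ S end_add_self ha hc han hcn hacn (hA2 a ha) (hA2 c hc) (hH a ha han)
        (hH c hc hcn))
    push Not at h4
    have hsplit : ∀ c ∈ A, c ∈ normalizer (K : Set G) ∨ a * c ∈ normalizer (K : Set G) :=
      fun c hc => or_iff_not_imp_left.2 (h4 c hc)
    set σ := quotRep ρ W0 hW0
    have hσK : ¬ ∀ u ∈ K, σ u = 1 := fun h => hne (eq_one_of_chain ρ S.perfect hW0K fun k hk v => by
      have := LinearMap.congr_fun (h k hk) (Submodule.Quotient.mk v)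
      rwa [quotRep_mk, Module.End.one_apply, Submodule.Quotient.eq] at this)
    refine hσK (eq_one_of_final σ S ha (hAsA hb) han hbn hnc (fun c hc => ?_) hsplit (fun U hUA hUK => ?_) ?_)
    · refine Submodule.linearMap_qext _ (LinearMap.ext fun v => ?_)
      have := congrArg (Submodule.Quotient.mk (p := W0)) (LinearMap.congr_fun (hq' b hb c hc) v)
      simpa [σ, quotRep_mk] using this
    · have hinv := stable_all ρ (U := U.comap W0.mkQ) hgen (fun g hg v hv => hUA g hg _ hv)
        (fun g hg v hv => hUK g hg _ hv)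
      by_cases hUt : U.comap W0.mkQ = ⊤
      · refine Or.inr (eq_top_iff.2 fun q _ => ?_)
        obtain ⟨v, rfl⟩ := Submodule.Quotient.mk_surjective W0 q
        exact hUt.ge (Submodule.mem_top (x := v))
      · refine Or.inl (eq_bot_iff.2 fun q hq => ?_)
        obtain ⟨v, rfl⟩ := Submodule.Quotient.mk_surjective W0 q
        exact (Submodule.mem_bot _).2 ((Submodule.Quotient.mk_eq_zero W0).2 (hsub _ hinv hUt hq))
    · -- the offender inequality on the section
      set B := A ⊓ σ.toHomUnits.ker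
      have hBtriv : ∀ y ∈ B, ρ y = 1 := by
        intro y ⟨hy, hyk⟩
        have hy1 : σ y = 1 := congrArg Units.val (show σ.toHomUnits y = 1 from hyk)
        by_cases hyc : ∀ k ∈ K, Commute y k
        · exact hcent1 y hy hyc
        exfalso
        by_cases hyn : y ∈ normalizer (K : Set G)
        · have hker : K ⊓ σ.toHomUnits.ker = K := by
            refine S.eq_of_commutator_mem hyn (fun h => hyc fun k hk => (h k hk).symm) inf_le_left
              (fun k hk n hn => ⟨K.mul_mem (K.mul_mem hk hn.1) (K.inv_mem hk), ?_⟩)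
              fun u hu => ⟨commutator_mem_of_mem_normalizer hyn hu, ?_⟩
            · exact (MonoidHom.normal_ker σ.toHomUnits).conj_mem n hn.2 k
            · show σ.toHomUnits ⁅u, y⁆ = 1
              rw [map_commutatorElement, show σ.toHomUnits y = 1 from hyk, commutatorElement_one_right]
          refine hσK fun u hu => ?_
          exact congrArg Units.val (show σ.toHomUnits u = 1 from
            ((show u ∈ K ⊓ σ.toHomUnits.ker from hker.symm ▸ hu).2))
        · refine hσK (eq_one_of_commute σ S.perfect fun u hu v hv => ?_)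
          have h := rho_commute σ (S.commute_conj hy hyn u hu v hv)
          rwa [map_mul, map_mul, hy1, one_mul, inv_eq_of_mul_eq_one_right (hA2 y hy), hy1, mul_one] at h
      have h1 : Nat.card B * Nat.card V ≤ offV ρ A := by
        refine le_trans (Nat.mul_le_mul_left _ ?_) (hmax B inf_le_left)
        refine Nat.card_le_card_of_injective
          (fun v => (⟨v, fun y hy => by rw [hBtriv y hy, Module.End.one_apply]⟩ : fixSub ρ B))
          fun v w h => congrArg Subtype.val h
      have hcA : Nat.card A = Nat.card (A.map σ.toHomUnits) * Nat.card B := card_eq_range_mul_ker _ A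
      set qf := Nat.card {v : V ⧸ W0 // ∀ c ∈ A, σ c v = v} with hqf
      have h2 : Nat.card (fixSub ρ A) ≤ qf * Nat.card W0 := by
        rw [← Nat.card_prod]
        let r : V ⧸ W0 → V := fun q => Function.surjInv (Submodule.Quotient.mk_surjective W0) q
        have hr : ∀ q, Submodule.Quotient.mk (r q) = q := Function.surjInv_eq _
        refine Nat.card_le_card_of_injective (fun v : fixSub ρ A =>
          ((⟨Submodule.Quotient.mk v.1, fun c hc => by rw [quotRep_mk, v.2 c hc]⟩ :
              {v : V ⧸ W0 // ∀ c ∈ A, σ c v = v}),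
            (⟨v.1 - r (Submodule.Quotient.mk v.1), (Submodule.Quotient.eq W0).1 (hr _).symm⟩ : W0)))
          fun v w h => ?_
        have e1 : (Submodule.Quotient.mk v.1 : V ⧸ W0) = Submodule.Quotient.mk w.1 :=
          congrArg (fun z : {v : V ⧸ W0 // ∀ c ∈ A, σ c v = v} × W0 => z.1.1) h
        have e2 : v.1 - r (Submodule.Quotient.mk v.1) = w.1 - r (Submodule.Quotient.mk w.1) :=
          congrArg (fun z : {v : V ⧸ W0 // ∀ c ∈ A, σ c v = v} × W0 => (z.2 : V)) h
        rw [e1] at e2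
        exact Subtype.ext (sub_left_injective e2)
      rw [Submodule.card_eq_card_quotient_mul_card W0] at h1
      have h3 : Nat.card B * (Nat.card W0 * Nat.card (V ⧸ W0)) ≤
          Nat.card (A.map σ.toHomUnits) * Nat.card B * (qf * Nat.card W0) := by
        refine h1.trans ?_
        rw [offV, hcA]
        exact Nat.mul_le_mul_left _ h2
      have hpos : 0 < Nat.card B * Nat.card W0 := Nat.mul_pos Nat.card_pos Nat.card_pos
      refine Nat.le_of_mul_le_mul_left ?_ hpos
      calc Nat.card B * Nat.card W0 * Nat.card (V ⧸ W0) = Nat.card B * (Nat.card W0 * Nat.card (V ⧸ W0)) :=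
            mul_assoc _ _ _
        _ ≤ _ := h3
        _ = Nat.card B * Nat.card W0 * (Nat.card (A.map σ.toHomUnits) * qf) := by ring
  push Not at hII
  by_cases hIII : ∃ x ∈ As, x ∉ normalizer (K : Set G)
  · -- a quadratic mover
    obtain ⟨x, hx, hxn⟩ := hIII
    rcases eq_or_ne p 2 with rfl | hp2
    swap
    · exact hne (eq_one_of_quad_mover ρ S hp2 (hAsA hx) hxn (hq x hx x (hAsA hx)))
    have hA2 : ∀ x ∈ A, x * x = 1 := fun x hx => by rw [← pow_two]; exact S.exp x hx
    by_cases h4 : ∃ y ∈ As, y ∉ normalizer (K : Set G) ∧ x * y ∉ normalizer (K : Set G)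
    · obtain ⟨y, hy, hyn, hxyn⟩ := h4
      refine hne (eq_one_of_four ρ S end_add_self (hAsA hx) (hAsA hy) hxn hyn hxyn (hA2 x (hAsA hx))
        (hA2 y (hAsA hy)) ?_ ?_)
      · exact mul_mem_fixT_of_quad S ρ (hAsA hx) (hAsA hy) hxn hyn hxyn (hq y hy x (hAsA hx))
      · exact mul_mem_fixT_of_quad S ρ (hAsA hy) (hAsA hx) hyn hxn
          (by rwa [(S.comm y (hAsA hy) x (hAsA hx)).eq]) (hq x hx y (hAsA hy))
    push Not at h4
    set B := As ⊓ ρ.toHomUnits.ker
    have hmemB : ∀ y ∈ As, ρ y = 1 → y ∈ B := fun y hy h => ⟨hy, Units.ext h⟩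
    have hsplit : ∀ y ∈ As, y ∈ B ∨ x * y ∈ B := by
      intro y hy
      by_cases hyn : y ∈ normalizer (K : Set G)
      · exact Or.inl (hmemB y hy (hcent1 y (hAsA hy) fun k hk => (hII y hy hyn k hk).symm))
      · exact Or.inr (hmemB _ (mul_mem hx hy) (hcent1 _ (hAsA (mul_mem hx hy))
          fun k hk => (hII _ (mul_mem hx hy) (h4 y hy hyn) k hk).symm))
    have hAs2 : Nat.card As ≤ 2 * Nat.card B := by
      let f : Bool × B → As := fun z =>
        cond z.1 ⟨x * z.2, mul_mem hx z.2.2.1⟩ ⟨z.2, z.2.2.1⟩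
      have hf : Function.Surjective f := by
        rintro ⟨y, hy⟩
        rcases hsplit y hy with h | h
        · exact ⟨(false, ⟨y, h⟩), rfl⟩
        · refine ⟨(true, ⟨x * y, h⟩), Subtype.ext ?_⟩
          show x * (x * y) = y
          rw [← mul_assoc, hA2 x (hAsA hx), one_mul]
      have := Nat.card_le_card_of_surjective f hf
      rwa [Nat.card_prod, show Nat.card Bool = 2 by simp] at this
    have h1 : Nat.card B * Nat.card V ≤ Nat.card As * Nat.card (fixSub ρ As) := by
      refine le_trans ?_ (hoff.ge : offV ρ A ≤ offV ρ As)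
      refine le_trans (Nat.mul_le_mul_left _ ?_) (hmax B (inf_le_left.trans hAsA))
      refine Nat.card_le_card_of_injective
        (fun v => (⟨v, fun y hy => by
          have h : ρ y = 1 := congrArg Units.val (show ρ.toHomUnits y = 1 from hy.2)
          rw [h, Module.End.one_apply]⟩ : fixSub ρ B))
        fun v w h => congrArg Subtype.val h
    set T := ρ x - 1 with hT
    have hker : Nat.card V ≤ 2 * Nat.card (LinearMap.ker T) := by
      have h2 : Nat.card (fixSub ρ As) ≤ Nat.card (LinearMap.ker T) :=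
        Nat.card_mono (Set.toFinite _) fun v hv => LinearMap.mem_ker.2 (by
          show ρ x v - v = 0
          rw [(show ∀ b ∈ As, ρ b v = v from hv) x hx, sub_self])
      refine Nat.le_of_mul_le_mul_left (h1.trans ?_) (Nat.card_pos (α := B))
      calc Nat.card As * Nat.card (fixSub ρ As) ≤ 2 * Nat.card B * Nat.card (LinearMap.ker T) :=
            Nat.mul_le_mul hAs2 h2
        _ = _ := by ring
    have hrange : Nat.card (LinearMap.range T) ≤ 2 := by
      have h2 : Nat.card (LinearMap.range T) * Nat.card (LinearMap.ker T) = Nat.card V := by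
        rw [Submodule.card_eq_card_quotient_mul_card (LinearMap.ker T), mul_comm,
          Nat.card_congr T.quotKerEquivRange.toEquiv]
      rw [← h2] at hker
      exact Nat.le_of_mul_le_mul_right hker Nat.card_pos
    refine hne (eq_one_of_transvection ρ S end_add_self (hAsA hx) hxn (hA2 x (hAsA hx)) fun v w hv hw => ?_)
    by_contra hvw
    have hFin := Fintype.ofFinite (LinearMap.range T)
    rw [Nat.card_eq_fintype_card] at hrange
    have : 2 < Fintype.card (LinearMap.range T) := Fintype.two_lt_card_iff.2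
      ⟨0, ⟨T v, v, rfl⟩, ⟨T w, w, rfl⟩, fun h => hv (congrArg Subtype.val h).symm,
        fun h => hw (congrArg Subtype.val h).symm, fun h => hvw (congrArg Subtype.val h)⟩
    omega
  push Not at hIII
  -- all of `As` centralises `K`
  have hcen : ∀ x ∈ As, ∀ k ∈ K, Commute x k := fun x hx k hk => (hII x hx (hIII x hx) k hk).symm
  set W1 := fixSub ρ As
  have hW1 : ∀ g, ∀ v ∈ W1, ρ g v ∈ W1 := fun g v hv x hx => by
    rw [← Module.End.mul_apply, (rho_commute ρ (mem_center_of_centralize S hgen (hAsA hx) (hcen x hx) g)).eq,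
      Module.End.mul_apply, hv x hx]
  have hcW1 : ∀ c ∈ A, ∀ v, (ρ c - 1) v ∈ W1 := fun c hc v => by
    rw [show W1 = _ from hX]
    exact Submodule.mem_sup_left (Submodule.subset_span ⟨c, hc, v, trivial, rfl⟩)
  by_cases hW1t : W1 = ⊤
  · have htop : fixSub ρ A = ⊤ := eq_one_of_quad_of_top ρ S.comm S.exp (by rw [← hX]; exact hW1t)
    refine hne (eq_one_of_commute ρ S.perfect fun u hu v hv => ?_)
    have h1 : ∀ c ∈ A, ρ c = 1 := fun c hc => LinearMap.ext fun w =>
      (htop.ge (Submodule.mem_top (x := w))) c hc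
    have h := rho_commute ρ (S.commute_conj ha han u hu v hv)
    rwa [map_mul, map_mul, h1 a ha, one_mul, h1 _ (inv_mem ha), mul_one] at h
  · have hfix := hmin W1 hW1 hW1t
    refine hne (eq_one_of_chain ρ S.perfect hfix ?_)
    let Q : Subgroup G :=
      { carrier := {g | ∀ v, ρ g v - v ∈ W1}
        one_mem' := fun v => by simp
        mul_mem' := fun {x y} hx hy v => by
          rw [map_mul, Module.End.mul_apply,
            show ρ x (ρ y v) - v = ρ x (ρ y v - v) + (ρ x v - v) by rw [map_sub]; abel]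
          exact add_mem (hW1 x _ (hy v)) (hx v)
        inv_mem' := fun {x} hx v => by
          have h := hW1 x⁻¹ _ (hx v)
          rw [map_sub, ← Module.End.mul_apply, rho_inv_mul, Module.End.one_apply] at h
          rw [← neg_sub]; exact neg_mem h }
    have hd : ∀ u, ∀ v, ρ (a * u * a⁻¹) v - ρ u v ∈ W1 := fun u v => by
      have e : ρ (a * u * a⁻¹) v - ρ u v
          = (ρ a - 1) (ρ u (ρ a⁻¹ v)) + ρ u ((ρ a⁻¹ - 1) v) := by
        simp only [map_mul, Module.End.mul_apply, LinearMap.sub_apply, Module.End.one_apply, map_sub]; abel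
      rw [e]
      exact add_mem (hcW1 a ha _) (hW1 u _ (hcW1 _ (inv_mem ha) v))
    have hle : K ≤ Q := le_of_commutators S.perfect fun u hu w hw v => by
      set v' := ρ u⁻¹ (ρ w⁻¹ v)
      have e : ρ ⁅u, w⁆ v - v = ρ u (ρ w v') - ρ w (ρ u v') := by
        rw [commutatorElement_def]
        simp only [v', map_mul, Module.End.mul_apply]
        congr 1
        simp only [← Module.End.mul_apply, ← map_mul]
        rw [show w * (u * (u⁻¹ * w⁻¹)) = 1 by group, map_one, Module.End.one_apply]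
      have hc := LinearMap.congr_fun (rho_commute ρ (S.commute_conj ha han w hw u hu)).eq v'
      rw [Module.End.mul_apply, Module.End.mul_apply] at hc
      have h1 := hd u (ρ w v')
      have h2 := hW1 w _ (hd u v')
      rw [map_sub] at h2
      have e2 : ρ u (ρ w v') - ρ w (ρ u v')
          = (ρ w (ρ (a * u * a⁻¹) v') - ρ w (ρ u v')) - (ρ (a * u * a⁻¹) (ρ w v') - ρ u (ρ w v')) := by
        rw [hc]; abel
      rw [e, e2]
      exact sub_mem h2 h1
    exact fun k hk v => hle hk v

omit [Finite G] in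
theorem offV_restrict_le [Finite G] (W : Submodule (ZMod p) V) {B : Subgroup G} (hB : B ≤ A)
    (hmax : offV ρ B ≤ offV ρ A) :
    Nat.card B * Nat.card ↥(fixSub ρ B ⊓ W) ≤ Nat.card A * Nat.card ↥(fixSub ρ A ⊓ W) := by
  set X := fixSub ρ B ⊓ W
  set C := fixSub ρ A
  have h1 := card_sup_mul_inf X C
  have hinf : X ⊓ C = C ⊓ W :=
    le_antisymm (le_inf inf_le_right (inf_le_left.trans inf_le_right))
      (le_inf (inf_le_inf_right W (fixSub_antitone ρ hB)) inf_le_left)
  rw [hinf] at h1
  have h2 : Nat.card ↥(X ⊔ C) ≤ Nat.card ↥(fixSub ρ B) :=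
    Nat.card_mono (Set.toFinite _) (SetLike.coe_subset_coe.2 (sup_le inf_le_left (fixSub_antitone ρ hB)))
  refine Nat.le_of_mul_le_mul_right ?_ (Nat.card_pos (α := C))
  calc Nat.card B * Nat.card X * Nat.card C = Nat.card B * (Nat.card X * Nat.card C) := mul_assoc _ _ _
    _ = Nat.card B * Nat.card ↥(X ⊔ C) * Nat.card ↥(C ⊓ W) := by rw [← h1, mul_assoc]
    _ ≤ Nat.card B * Nat.card ↥(fixSub ρ B) * Nat.card ↥(C ⊓ W) :=
        Nat.mul_le_mul_right _ (Nat.mul_le_mul_left _ h2)
    _ ≤ Nat.card A * Nat.card C * Nat.card ↥(C ⊓ W) := Nat.mul_le_mul_right _ hmax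
    _ = _ := by ring

/-- A best offender normalises every component-like subgroup acting nontrivially. -/
theorem eq_one_of_mover (S : Setup p A K) (hmax : ∀ B ≤ A, offV ρ B ≤ offV ρ A) {a : G} (ha : a ∈ A)
    (han : a ∉ normalizer (K : Set G)) : ∀ u ∈ K, ρ u = 1 := by
  classical
  by_contra hne
  let P : Submodule (ZMod p) V → Prop := fun U =>
    (∀ g ∈ A, ∀ v ∈ U, ρ g v ∈ U) ∧ (∀ g ∈ K, ∀ v ∈ U, ρ g v ∈ U) ∧ ∃ k ∈ K, ∃ v ∈ U, ρ k v ≠ v
  have htop : P ⊤ := by
    refine ⟨fun _ _ _ _ => trivial, fun _ _ _ _ => trivial, ?_⟩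
    by_contra h
    push Not at h
    exact hne fun u hu => LinearMap.ext fun v => h u hu v trivial
  obtain ⟨W, hWmin⟩ := Set.Finite.exists_minimal (s := {U | P U}) (Set.toFinite _) ⟨⊤, htop⟩
  obtain ⟨hWA, hWK, k0, hk0, v0, hv0, hkv⟩ := hWmin.prop
  let G' : Subgroup G := A ⊔ K
  have hA' : A ≤ G' := le_sup_left
  have hK' : K ≤ G' := le_sup_right
  let St : Subgroup G :=
    { carrier := {g | (∀ v ∈ W, ρ g v ∈ W) ∧ ∀ v ∈ W, ρ g⁻¹ v ∈ W}
      one_mem' := ⟨fun v hv => by simpa using hv, fun v hv => by simpa using hv⟩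
      mul_mem' := fun {x y} hx hy =>
        ⟨fun v hv => by rw [map_mul]; exact hx.1 _ (hy.1 v hv),
          fun v hv => by rw [mul_inv_rev, map_mul]; exact hy.2 _ (hx.2 v hv)⟩
      inv_mem' := fun {x} hx => ⟨hx.2, fun v hv => by rw [inv_inv]; exact hx.1 v hv⟩ }
  have hSt : G' ≤ St :=
    sup_le (fun g hg => ⟨hWA g hg, hWA _ (inv_mem hg)⟩) fun g hg => ⟨hWK g hg, hWK _ (inv_mem hg)⟩
  let σ : Representation (ZMod p) G' W :=
    { toFun := fun g => (ρ (g : G)).restrict (hSt g.2).1
      map_one' := LinearMap.ext fun v => Subtype.ext (by simp)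
      map_mul' := fun x y => LinearMap.ext fun v => Subtype.ext (by simp) }
  set A' := A.subgroupOf G'
  set K' := K.subgroupOf G'
  have hmapK : K'.map G'.subtype = K := map_subgroupOf_eq_of_le hK'
  have hnorm : ∀ x : G', x ∈ normalizer (K' : Set G') ↔ (x : G) ∈ normalizer (K : Set G) := by
    intro x
    rw [mem_normalizer_iff, mem_normalizer_iff]
    refine ⟨fun h g => ⟨fun hg => ?_, fun hg => ?_⟩, fun h g => h (g : G)⟩
    · exact (h ⟨g, hK' hg⟩).1 hg
    · have hgG : g ∈ G' := by
        have := mul_mem (mul_mem (inv_mem x.2) (hK' hg)) x.2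
        rwa [show (x : G)⁻¹ * ((x : G) * g * (x : G)⁻¹) * x = g by group] at this
      exact (h ⟨g, hgG⟩).2 hg
  have S' : Setup p A' K' :=
    { comm := fun x hx y hy => Subtype.ext (S.comm x hx y hy).eq
      exp := fun x hx => Subtype.ext (by rw [SubmonoidClass.coe_pow]; exact S.exp x hx)
      perfect := map_injective (subtype_injective G') (by rw [map_commutator, hmapK, S.perfect])
      qs := fun N hN hNn => by
        have h := S.qs (N.map G'.subtype) (hmapK ▸ map_mono hN) (by
          rintro k hk _ ⟨n, hn, rfl⟩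
          exact ⟨⟨k, hK' hk⟩ * n * ⟨k, hK' hk⟩⁻¹, hNn ⟨k, hK' hk⟩ hk n hn, rfl⟩)
        rcases h with h | h
        · exact Or.inl (map_injective (subtype_injective G') (h.trans hmapK.symm))
        · exact Or.inr fun n hn k hk => Subtype.ext (h _ (mem_map_of_mem _ hn) k hk).eq
      dich := fun x hx => by
        rcases S.dich x hx with h | h
        · exact Or.inl ((hnorm x).2 h)
        · exact Or.inr fun k hk l hl => Subtype.ext (h k hk l hl).eq }
  have hgen : A' ⊔ K' = ⊤ := by rw [← subgroupOf_sup hA' hK', subgroupOf_self]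
  have hmin' : ∀ U : Submodule (ZMod p) W, (∀ g, ∀ v ∈ U, σ g v ∈ U) → U ≠ ⊤ →
      ∀ k ∈ K', ∀ v ∈ U, σ k v = v := by
    intro U hU hUt k hk v hv
    by_contra hne'
    have hP : P (U.map W.subtype) := by
      refine ⟨?_, ?_, k, hk, v, ⟨v, hv, rfl⟩, fun h => hne' (Subtype.ext h)⟩
      · rintro g hg _ ⟨w, hw, rfl⟩
        exact ⟨σ ⟨g, hA' hg⟩ w, hU _ w hw, rfl⟩
      · rintro g hg _ ⟨w, hw, rfl⟩
        exact ⟨σ ⟨g, hK' hg⟩ w, hU _ w hw, rfl⟩
    have hle : U.map W.subtype ≤ W := Submodule.map_subtype_le _ _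
    have heq : W ≤ U.map W.subtype := hWmin.2 hP hle
    refine hUt (eq_top_iff.2 fun w _ => ?_)
    obtain ⟨w', hw', e⟩ := heq w.2
    exact Subtype.ext e ▸ hw'
  have hcard : ∀ B : Subgroup G', Nat.card (B.map G'.subtype) = Nat.card B := fun B =>
    Nat.card_congr (B.equivMapOfInjective _ (subtype_injective G')).symm.toEquiv
  have hfix : ∀ B : Subgroup G', Nat.card (fixSub σ B)
      = Nat.card ↥(fixSub ρ (B.map G'.subtype) ⊓ W) := fun B => Nat.card_congr
    { toFun := fun v => ⟨(v.1 : V), by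
        rintro _ ⟨b, hb, rfl⟩
        exact congrArg Subtype.val (v.2 b hb), v.1.2⟩
      invFun := fun v => ⟨⟨v.1, v.2.2⟩, fun b hb => Subtype.ext (v.2.1 _ (mem_map_of_mem _ hb))⟩
      left_inv := fun _ => rfl
      right_inv := fun _ => rfl }
  have hmapA : A'.map G'.subtype = A := map_subgroupOf_eq_of_le hA'
  have hmax' : ∀ B ≤ A', offV σ B ≤ offV σ A' := by
    intro B hB
    unfold offV
    rw [hfix, hfix, ← hcard B, ← hcard A', hmapA]
    have hBA : B.map G'.subtype ≤ A := hmapA ▸ map_mono hB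
    exact offV_restrict_le ρ W hBA (hmax _ hBA)
  have := eq_one_of_minimal σ S' hgen hmin' hmax' (a := ⟨a, hA' ha⟩) ha
    (fun h => han ((hnorm _).1 h)) ⟨k0, hK' hk0⟩ hk0
  exact hkv (congrArg Subtype.val (LinearMap.congr_fun this ⟨v0, hv0⟩))

end CfsgLib.LocalEven.PGV
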