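import Cfsg.Agent.Lib.LocalEven.PGV.Basic
import Cfsg.Agent.Lib.PGroup.Counting
import Mathlib.LinearAlgebra.Quotient.Card
import Mathlib.LinearAlgebra.FiniteDimensional.Lemmas

/-!
Thompson-Timmesfeld replacement for a linear action.
-/

namespace CfsgLib.LocalEven.PGV

open Subgroup

variable {G V : Type*} [Group G] [AddCommGroup V] {p : ℕ} [Module (ZMod p) V]
  (ρ : Representation (ZMod p) G V)

/-- The fixed points of `B`. -/
def fixSub (B : Subgroup G) : Submodule (ZMod p) V where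
  carrier := {v | ∀ b ∈ B, ρ b v = v}
  add_mem' hv hw b hb := by rw [map_add, hv b hb, hw b hb]
  zero_mem' b _ := map_zero _
  smul_mem' r v hv b hb := by rw [map_smul, hv b hb]

/-- `|B| |C_V(B)|`. -/
noncomputable def offV (B : Subgroup G) : ℕ := Nat.card B * Nat.card (fixSub ρ B)

/-- `[S, A]`. -/
def comSpan (A : Subgroup G) (S : Set V) : Submodule (ZMod p) V :=
  Submodule.span (ZMod p) {w | ∃ c ∈ A, ∃ u ∈ S, (ρ c - 1) u = w}

/-- `C_A([S, A])`. -/
def centAt (A : Subgroup G) (S : Set V) : Subgroup G where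
  carrier := {x | x ∈ A ∧ ∀ c ∈ A, ∀ u ∈ S, ρ x ((ρ c - 1) u) = (ρ c - 1) u}
  one_mem' := ⟨one_mem A, fun c _ u _ => by rw [map_one, Module.End.one_apply]⟩
  mul_mem' {x y} hx hy := ⟨mul_mem hx.1 hy.1, fun c hc u hu => by
    rw [map_mul, Module.End.mul_apply, hy.2 c hc u hu, hx.2 c hc u hu]⟩
  inv_mem' {x} hx := ⟨inv_mem hx.1, fun c hc u hu => by
    conv_lhs => rw [← hx.2 c hc u hu]
    rw [← Module.End.mul_apply, rho_inv_mul, Module.End.one_apply]⟩

theorem centAt_le (A : Subgroup G) (S : Set V) : centAt ρ A S ≤ A := fun _ hx => hx.1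

theorem fixSub_antitone {B B' : Subgroup G} (h : B ≤ B') : fixSub ρ B' ≤ fixSub ρ B :=
  fun _ hv b hb => hv b (h hb)

theorem fixSub_inf_le_sup (B B' : Subgroup G) : fixSub ρ B ⊓ fixSub ρ B' ≤ fixSub ρ (B ⊔ B') := by
  intro v hv b hb
  let St : Subgroup G :=
    { carrier := {g | ρ g v = v}
      one_mem' := by simp
      mul_mem' := fun {x y} (hx : ρ x v = v) (hy : ρ y v = v) => by
        show ρ (x * y) v = v
        rw [map_mul, Module.End.mul_apply, hy, hx]
      inv_mem' := fun {x} (hx : ρ x v = v) => by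
        show ρ x⁻¹ v = v
        conv_lhs => rw [← hx, ← Module.End.mul_apply, rho_inv_mul, Module.End.one_apply] }
  exact (sup_le hv.1 hv.2 : B ⊔ B' ≤ St) hb

variable [Finite V] [hp : Fact p.Prime]

theorem card_submodule_eq (X : Submodule (ZMod p) V) : Nat.card X = p ^ Module.finrank (ZMod p) X := by
  rw [Module.natCard_eq_pow_finrank (K := ZMod p) (V := X), Nat.card_zmod]

theorem card_sup_mul_inf (X Y : Submodule (ZMod p) V) :
    Nat.card ↥(X ⊔ Y) * Nat.card ↥(X ⊓ Y) = Nat.card X * Nat.card Y := by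
  rw [card_submodule_eq, card_submodule_eq, card_submodule_eq, card_submodule_eq, ← pow_add, ← pow_add,
    Submodule.finrank_sup_add_finrank_inf_eq]

variable [Finite G] {A : Subgroup G}

theorem le_fix_centAt (hcomm : ∀ x ∈ A, ∀ y ∈ A, Commute x y) (S : Set V) :
    comSpan ρ A S ⊔ fixSub ρ A ≤ fixSub ρ (centAt ρ A S) := by
  have _ := hcomm
  refine sup_le (Submodule.span_le.2 ?_) (fixSub_antitone ρ (centAt_le ρ A S))
  rintro _ ⟨c, hc, u, hu, rfl⟩ x hx
  exact hx.2 c hc u hu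

theorem card_le_singleton (hcomm : ∀ x ∈ A, ∀ y ∈ A, Commute x y) (u : V) :
    offV ρ A ≤ Nat.card (centAt ρ A {u}) * Nat.card ↥(comSpan ρ A {u} ⊔ fixSub ρ A) := by
  classical
  set C := fixSub ρ A
  set B := centAt ρ A {u}
  set X := comSpan ρ A {u} ⊔ C
  let g : A → V ⧸ C := fun a => Submodule.Quotient.mk ((ρ (a : G) - 1) u)
  have hA : Nonempty A := ⟨1⟩
  let r : A → A := fun a => Function.invFun g (g a)
  have hr : ∀ a, g (r a) = g a := fun a => Function.invFun_eq ⟨a, rfl⟩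
  have hmem : ∀ a : A, ((r a : G))⁻¹ * a ∈ B := by
    intro a
    refine ⟨mul_mem (inv_mem (r a).2) a.2, fun c hc w hw => ?_⟩
    rw [Set.mem_singleton_iff.1 hw]
    have hq : (ρ (a : G) - 1) u - (ρ (r a : G) - 1) u ∈ C := (Submodule.Quotient.eq C).1 (hr a).symm
    set x := ((r a : G))⁻¹ * a
    have h1 : (ρ x - 1) u = (ρ (a : G) - 1) u - (ρ (r a : G) - 1) u := by
      rw [← hq _ (inv_mem (r a).2)]
      simp only [x, map_mul, Module.End.mul_apply, LinearMap.sub_apply, Module.End.one_apply, map_sub]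
      rw [← Module.End.mul_apply (ρ (r a : G)⁻¹) (ρ (r a : G)), rho_inv_mul, Module.End.one_apply]
      abel
    have h2 : (ρ c - 1) ((ρ x - 1) u) = 0 := by
      rw [LinearMap.sub_apply, Module.End.one_apply, h1, hq c hc, sub_self]
    have h3 := LinearMap.congr_fun
      (sub_one_comm ρ (hcomm x (mul_mem (inv_mem (r a).2) a.2) c hc)).eq u
    rw [Module.End.mul_apply, Module.End.mul_apply, h2] at h3
    rwa [LinearMap.sub_apply (ρ x), Module.End.one_apply, sub_eq_zero] at h3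
  let f : A × C → B × X := fun ac =>
    (⟨_, hmem ac.1⟩, ⟨(ρ (ac.1 : G) - 1) u + ac.2,
      add_mem (Submodule.mem_sup_left (Submodule.subset_span ⟨_, ac.1.2, u, rfl, rfl⟩))
        (Submodule.mem_sup_right ac.2.2)⟩)
  have hf : Function.Injective f := by
    intro s t h
    have h1 : ((r s.1 : G))⁻¹ * s.1 = ((r t.1 : G))⁻¹ * t.1 :=
      congrArg (fun z : B × X => (z.1 : G)) h
    have h2 : (ρ (s.1 : G) - 1) u + (s.2 : V) = (ρ (t.1 : G) - 1) u + t.2 :=
      congrArg (fun z : B × X => (z.2 : V)) h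
    have hg : g s.1 = g t.1 := by
      refine (Submodule.Quotient.eq C).2 ?_
      rw [show (ρ (s.1 : G) - 1) u - (ρ (t.1 : G) - 1) u = (t.2 : V) - s.2 by
        rw [sub_eq_sub_iff_add_eq_add, h2, add_comm]]
      exact sub_mem t.2.2 s.2.2
    have hrr : r s.1 = r t.1 := congrArg (Function.invFun g) hg
    rw [hrr] at h1
    have ha : s.1 = t.1 := Subtype.ext (mul_left_cancel h1)
    rw [ha] at h2
    exact Prod.ext ha (Subtype.ext (add_left_cancel h2))
  have := Nat.card_le_card_of_injective f hf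
  rwa [Nat.card_prod, Nat.card_prod] at this

/-- Replacement: `C_A([S, A])` is again a best offender, and its fixed points are `[S, A] + C_V(A)`. -/
theorem replacement (hcomm : ∀ x ∈ A, ∀ y ∈ A, Commute x y) (hmax : ∀ B ≤ A, offV ρ B ≤ offV ρ A)
    (s : Finset V) :
    fixSub ρ (centAt ρ A s) = comSpan ρ A s ⊔ fixSub ρ A ∧ offV ρ (centAt ρ A s) = offV ρ A := by
  classical
  have hsuff : ∀ S : Set V,
      offV ρ A ≤ Nat.card (centAt ρ A S) * Nat.card ↥(comSpan ρ A S ⊔ fixSub ρ A) →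
      fixSub ρ (centAt ρ A S) = comSpan ρ A S ⊔ fixSub ρ A ∧ offV ρ (centAt ρ A S) = offV ρ A := by
    intro S h
    have hle := le_fix_centAt ρ hcomm S
    have h1 := hmax _ (centAt_le ρ A S)
    have h2 : Nat.card (centAt ρ A S) * Nat.card ↥(comSpan ρ A S ⊔ fixSub ρ A) ≤ offV ρ (centAt ρ A S) :=
      Nat.mul_le_mul_left _ (Nat.card_mono (Set.toFinite _) hle)
    refine ⟨?_, le_antisymm h1 (h.trans h2)⟩
    refine (Submodule.eq_of_le_of_finrank_eq hle ?_).symm
    have h3 : Nat.card ↥(fixSub ρ (centAt ρ A S)) ≤ Nat.card ↥(comSpan ρ A S ⊔ fixSub ρ A) :=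
      Nat.le_of_mul_le_mul_left (h1.trans h) Nat.card_pos
    have h4 : Nat.card ↥(comSpan ρ A S ⊔ fixSub ρ A) = Nat.card ↥(fixSub ρ (centAt ρ A S)) :=
      le_antisymm (Nat.card_mono (Set.toFinite _) hle) h3
    rw [card_submodule_eq, card_submodule_eq] at h4
    exact Nat.pow_right_injective hp.out.two_le h4
  refine hsuff _ ?_
  induction s using Finset.induction with
  | empty =>
    rw [Finset.coe_empty]
    refine Nat.mul_le_mul (Nat.card_mono (Set.toFinite _) ?_) (Nat.card_mono (Set.toFinite _) (SetLike.coe_subset_coe.2 le_sup_right))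
    exact fun x hx => ⟨hx, fun c _ u hu => hu.elim⟩
  | insert u s _ ih =>
    obtain ⟨hX1, hf1⟩ := hsuff _ ih
    obtain ⟨hX2, hf2⟩ := hsuff _ (card_le_singleton ρ hcomm u)
    set B1 := centAt ρ A (s : Set V)
    set B2 := centAt ρ A ({u} : Set V)
    set C := fixSub ρ A
    set X1 := comSpan ρ A (s : Set V) ⊔ C
    set X2 := comSpan ρ A ({u} : Set V) ⊔ C
    have hB : B1 ⊓ B2 ≤ centAt ρ A (↑(insert u s) : Set V) := fun x hx => ⟨hx.1.1, fun c hc w hw => by
      rw [Finset.coe_insert] at hw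
      rcases hw with rfl | hw
      · exact hx.2.2 c hc w rfl
      · exact hx.1.2 c hc w hw⟩
    have hmono : ∀ S T : Set V, S ⊆ T → comSpan ρ A S ≤ comSpan ρ A T := fun S T h =>
      Submodule.span_mono fun w ⟨c, hc, v, hv, e⟩ => ⟨c, hc, v, h hv, e⟩
    have hXX : X1 ⊔ X2 ≤ comSpan ρ A (↑(insert u s) : Set V) ⊔ C := by
      refine sup_le (sup_le_sup_right (hmono _ _ ?_) _) (sup_le_sup_right (hmono _ _ ?_) _) <;> simp
    have hi : X1 ⊓ X2 ≤ fixSub ρ (B1 ⊔ B2) := by
      refine le_trans ?_ (fixSub_inf_le_sup ρ B1 B2)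
      rw [hX1, hX2]
    have e1 : Nat.card B1 * Nat.card X1 = offV ρ A := by rw [← hf1, offV, hX1]
    have e2 : Nat.card B2 * Nat.card X2 = offV ρ A := by rw [← hf2, offV, hX2]
    have h3 : Nat.card ↥(B1 ⊔ B2) * Nat.card ↥(X1 ⊓ X2) ≤ offV ρ A :=
      (Nat.mul_le_mul_left _ (Nat.card_mono (Set.toFinite _) hi)).trans
        (hmax _ (sup_le (centAt_le ρ A _) (centAt_le ρ A _)))
    have h4 : offV ρ A * offV ρ A ≤
        (Nat.card ↥(B1 ⊓ B2) * Nat.card ↥(X1 ⊔ X2)) * (Nat.card ↥(B1 ⊔ B2) * Nat.card ↥(X1 ⊓ X2)) := by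
      calc offV ρ A * offV ρ A = (Nat.card B1 * Nat.card B2) * (Nat.card X1 * Nat.card X2) := by
            conv_lhs => arg 1; rw [← e1]
            rw [← e2]; ring
        _ ≤ (Nat.card ↥(B1 ⊔ B2) * Nat.card ↥(B1 ⊓ B2)) * (Nat.card ↥(X1 ⊔ X2) * Nat.card ↥(X1 ⊓ X2)) :=
            Nat.mul_le_mul (PGroup.card_mul_card_le_sup_inf B1 B2) (card_sup_mul_inf X1 X2).ge
        _ = _ := by ring
    have hpos : 0 < offV ρ A := Nat.mul_pos Nat.card_pos Nat.card_pos
    have h5 := Nat.le_of_mul_le_mul_right (h4.trans (Nat.mul_le_mul_left _ h3)) hpos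
    exact h5.trans (Nat.mul_le_mul (Nat.card_mono (Set.toFinite _) hB) (Nat.card_mono (Set.toFinite _) hXX))

end CfsgLib.LocalEven.PGV
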