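import Cfsg.Agent.Lib.LocalEven.PGV.Basic

/-!
The P(G,V) theorem at the prime two: the two-mover identity, four conjugates, and transvections.
-/

namespace CfsgLib.LocalEven.PGV

open Subgroup
open scoped commutatorElement

variable {G V : Type*} [Group G] [AddCommGroup V] [Finite V] {p : ℕ} [hp : Fact p.Prime]
  [Module (ZMod p) V] (ρ : Representation (ZMod p) G V) {A K : Subgroup G}

/-- `ρ g + ρ g⁻¹`. -/
def zOf (g : G) : Module.End (ZMod p) V := ρ g + ρ g⁻¹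

/-- The elements `g` with `X * (ρ g - 1) = 0`. -/
def annLeft (X : Module.End (ZMod p) V) : Subgroup G where
  carrier := {g | X * (ρ g - 1) = 0}
  one_mem' := by simp
  mul_mem' {x y} hx hy := by
    show X * (ρ (x * y) - 1) = 0
    rw [map_mul, show X * (ρ x * ρ y - 1) = X * (ρ x - 1) * ρ y + X * (ρ y - 1) by noncomm_ring, hx, hy,
      zero_mul, zero_add]
  inv_mem' {x} hx := by
    show X * (ρ x⁻¹ - 1) = 0
    rw [show ρ x⁻¹ - 1 = -((ρ x - 1) * ρ x⁻¹) by rw [sub_mul, rho_mul_inv]; noncomm_ring, mul_neg,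
      ← mul_assoc, hx, zero_mul, neg_zero]

/-- The elements `g` with `(ρ g - 1) * X = 0`. -/
def annRight (X : Module.End (ZMod p) V) : Subgroup G where
  carrier := {g | (ρ g - 1) * X = 0}
  one_mem' := by simp
  mul_mem' {x y} hx hy := by
    show (ρ (x * y) - 1) * X = 0
    rw [map_mul, show (ρ x * ρ y - 1) * X = ρ x * ((ρ y - 1) * X) + (ρ x - 1) * X by noncomm_ring, hx, hy,
      mul_zero, zero_add]
  inv_mem' {x} hx := by
    show (ρ x⁻¹ - 1) * X = 0
    rw [show ρ x⁻¹ - 1 = -(ρ x⁻¹ * (ρ x - 1)) by rw [mul_sub, rho_inv_mul]; noncomm_ring, neg_mul,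
      mul_assoc, hx, mul_zero, neg_zero]

omit [Finite V] in
/-- The two-mover identity. -/
theorem zOf_conj_eq {a g : G} (haa : a * a = 1) (hg : g * (a * g * a⁻¹) ∈ fixT ρ a) :
    zOf ρ g = zOf ρ (a * g * a⁻¹) := by
  have hai : a⁻¹ = a := inv_eq_of_mul_eq_one_right haa
  set g' := a * g * a⁻¹
  have h1 : ρ g' * (ρ a - 1) = ρ g⁻¹ * (ρ a - 1) := by
    conv_rhs => rw [← hg.1, map_mul, ← mul_assoc, ← mul_assoc, rho_inv_mul, one_mul]
  have h2 : (ρ a - 1) * ρ g = (ρ a - 1) * ρ g'⁻¹ := by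
    conv_rhs => rw [← hg.2, map_mul, ← mul_assoc, mul_assoc _ (ρ g'), rho_mul_inv, mul_one]
  have e1 : ρ g' * ρ a = ρ a * ρ g := rho_conj_mul ρ a g
  have e2 : ρ a * ρ g'⁻¹ = ρ g⁻¹ * ρ a := by
    rw [← map_mul, ← map_mul]
    congr 1
    rw [show g'⁻¹ = a * g⁻¹ * a⁻¹ by simp only [g']; group, ← mul_assoc, ← mul_assoc, haa, one_mul, hai]
  have h3 : (ρ g' - ρ g⁻¹) * ρ a = ρ g' - ρ g⁻¹ := by
    refine sub_eq_zero.1 ?_
    calc _ = ρ g' * (ρ a - 1) - ρ g⁻¹ * (ρ a - 1) := by noncomm_ring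
      _ = 0 := sub_eq_zero.2 h1
  have h4 : ρ a * (ρ g - ρ g'⁻¹) = ρ g - ρ g'⁻¹ := by
    refine sub_eq_zero.1 ?_
    calc _ = (ρ a - 1) * ρ g - (ρ a - 1) * ρ g'⁻¹ := by noncomm_ring
      _ = 0 := sub_eq_zero.2 h2
  have h5 : ρ g' - ρ g⁻¹ = ρ g - ρ g'⁻¹ := by
    rw [← h3, ← h4, sub_mul, mul_sub, e1, e2]
  refine (sub_eq_zero.1 ?_).symm
  calc zOf ρ g' - zOf ρ g = (ρ g' - ρ g⁻¹) - (ρ g - ρ g'⁻¹) := by unfold zOf; abel
    _ = 0 := sub_eq_zero.2 h5

omit [Finite V] in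
theorem rho_zOf_comm (g a : G) : ρ a * zOf ρ g = zOf ρ (a * g * a⁻¹) * ρ a := by
  unfold zOf
  rw [mul_add, add_mul, rho_conj_mul, show (a * g * a⁻¹)⁻¹ = a * g⁻¹ * a⁻¹ by group, rho_conj_mul]

omit [Finite V] in
theorem zOf_commute_mover {a g : G} (haa : a * a = 1) (hg : g * (a * g * a⁻¹) ∈ fixT ρ a) :
    Commute (ρ a) (zOf ρ g) := by
  show _ = _
  rw [rho_zOf_comm, ← zOf_conj_eq ρ haa hg]

omit [Finite V] in
theorem orbitProd_two (a u : G) : orbitProd a u 2 = u * (a * u * a⁻¹) := by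
  simp [orbitProd]

/-- Four pairwise commuting conjugates are impossible. -/
theorem eq_one_of_four (S : Setup p A K) (h2 : ∀ x : Module.End (ZMod p) V, x + x = 0) {a c : G}
    (ha : a ∈ A) (hc : c ∈ A) (han : a ∉ normalizer (K : Set G)) (hcn : c ∉ normalizer (K : Set G))
    (hacn : a * c ∉ normalizer (K : Set G)) (haa : a * a = 1) (hcc : c * c = 1)
    (hHa : ∀ u ∈ K, u * (a * u * a⁻¹) ∈ fixT ρ a) (hHc : ∀ u ∈ K, u * (c * u * c⁻¹) ∈ fixT ρ c) :
    ∀ u ∈ K, ρ u = 1 := by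
  have hai : a⁻¹ = a := inv_eq_of_mul_eq_one_right haa
  have hca : c * a = a * c := (S.comm c hc a ha).eq
  have hz : ∀ u ∈ K, ∀ w ∈ K, ∀ v ∈ K, Commute (ρ v) (zOf ρ (u * (a * w * a⁻¹))) := by
    intro u hu w hw v hv
    set g := u * (a * w * a⁻¹)
    have hmem : g * (c * g * c⁻¹) ∈ fixT ρ c := by
      have h1 : Commute (a * w * a⁻¹) (c * u * c⁻¹) :=
        S.commute_conj_conj ha hc (by rwa [hai]) w hw u hu
      have h2 : g * (c * g * c⁻¹) = (u * (c * u * c⁻¹)) * (a * (w * (c * w * c⁻¹)) * a⁻¹) := by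
        calc g * (c * g * c⁻¹)
            = u * ((a * w * a⁻¹) * (c * u * c⁻¹)) * ((c * a) * w * (c * a)⁻¹) := by simp only [g]; group
          _ = u * ((c * u * c⁻¹) * (a * w * a⁻¹)) * ((a * c) * w * (a * c)⁻¹) := by rw [h1.eq, hca]
          _ = _ := by group
      rw [h2]
      exact mul_mem (hHc u hu) (fixT_conj ρ (S.comm a ha c hc) (hHc w hw))
    rw [zOf_conj_eq ρ hcc hmem]
    have hcv : Commute v (c * g * c⁻¹) := by
      rw [show c * g * c⁻¹ = (c * u * c⁻¹) * ((c * a) * w * (c * a)⁻¹) by simp only [g]; group]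
      refine (S.commute_conj hc hcn v hv u hu).mul_right (S.commute_conj (mul_mem hc ha) ?_ v hv w hw)
      rwa [hca]
    exact (rho_commute ρ hcv).add_right (rho_commute ρ hcv.inv_right)
  have hYZ : ∀ w ∈ K, ∀ k ∈ K, (ρ k - 1) * zOf ρ (a * w * a⁻¹) = 0 := by
    intro w hw
    set w' := a * w * a⁻¹
    have hww : ∀ k ∈ K, Commute k w' := fun k hk => S.commute_conj ha han k hk w hw
    refine le_of_commutators S.perfect (N := annRight ρ (zOf ρ w')) fun v hv u hu => ?_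
    show (ρ ⁅v, u⁆ - 1) * zOf ρ w' = 0
    have hu1 : Commute (ρ v) (zOf ρ u) := by simpa using hz u hu 1 (one_mem K) v hv
    have hu2 := hz u hu w hw v hv
    have e0 : zOf ρ (u * w') = ρ u * ρ w' + ρ u⁻¹ * ρ w'⁻¹ := by
      unfold zOf
      rw [map_mul _ u w', mul_inv_rev, ((hww u hu).inv_inv).symm.eq, map_mul _ u⁻¹ w'⁻¹]
    have hv1 : Commute (ρ v) (ρ w') := rho_commute ρ (hww v hv)
    have hv2 : Commute (ρ v) (ρ w'⁻¹) := rho_commute ρ (hww v hv).inv_right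
    have key : (ρ v * ρ u - ρ u * ρ v) * zOf ρ w' = 0 := by
      have e1 : ρ v * zOf ρ (u * w') - zOf ρ (u * w') * ρ v
          = (ρ v * ρ u - ρ u * ρ v) * ρ w' + (ρ v * ρ u⁻¹ - ρ u⁻¹ * ρ v) * ρ w'⁻¹ := by
        rw [e0, add_mul, mul_assoc (ρ u), ← hv1.eq, mul_assoc (ρ u⁻¹), ← hv2.eq]; noncomm_ring
      rw [hu2.eq, sub_self] at e1
      have e2 : ρ v * ρ u⁻¹ - ρ u⁻¹ * ρ v = -(ρ v * ρ u - ρ u * ρ v) := by
        refine eq_neg_of_add_eq_zero_left ?_
        have e3 : ρ v * zOf ρ u - zOf ρ u * ρ v = 0 := sub_eq_zero.2 hu1.eq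
        rw [← e3]; unfold zOf; noncomm_ring
      rw [e2] at e1
      have e4 : ρ w' + ρ w'⁻¹ = ρ w' - ρ w'⁻¹ := by
        rw [sub_eq_add_neg, ← eq_neg_of_add_eq_zero_left (h2 (ρ w'⁻¹))]
      rw [zOf, e4, e1]; noncomm_ring
    have hcomm : Commute (ρ v⁻¹ * ρ u⁻¹) (zOf ρ w') := by
      refine Commute.mul_left ?_ ?_
      · exact (rho_commute ρ (hww v hv).inv_left).add_right (rho_commute ρ (hww v hv).inv_inv)
      · exact (rho_commute ρ (hww u hu).inv_left).add_right (rho_commute ρ (hww u hu).inv_inv)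
    have e5 : ρ ⁅v, u⁆ - 1 = (ρ v * ρ u - ρ u * ρ v) * (ρ v⁻¹ * ρ u⁻¹) := by
      rw [sub_mul, mul_assoc (ρ u), ← mul_assoc (ρ v) (ρ v⁻¹), rho_mul_inv, one_mul, rho_mul_inv,
        commutatorElement_def, map_mul, map_mul, map_mul]
      simp only [mul_assoc]
    rw [e5, mul_assoc, hcomm.eq, ← mul_assoc, key, zero_mul]
  have hM : ∀ k ∈ K, ∀ w ∈ K, (ρ k - 1) * (ρ (a * w * a⁻¹) - 1) = 0 := by
    intro k hk
    refine le_of_commutators S.perfect (N := (annLeft ρ (ρ k - 1)).comap (MulAut.conj a).toMonoidHom)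
      fun u hu v hv => ?_
    have hsq : ∀ w ∈ K, (MulAut.conj a).toMonoidHom (w * w) ∈ annLeft ρ (ρ k - 1) := by
      intro w hw
      show (ρ k - 1) * (ρ (a * (w * w) * a⁻¹) - 1) = 0
      have e : ρ (a * (w * w) * a⁻¹) - 1 = zOf ρ (a * w * a⁻¹) * ρ (a * w * a⁻¹) := by
        unfold zOf
        rw [add_mul, rho_inv_mul, show a * (w * w) * a⁻¹ = (a * w * a⁻¹) * (a * w * a⁻¹) by group,
          map_mul, sub_eq_add_neg, ← eq_neg_of_add_eq_zero_left (h2 1)]
      rw [e, ← mul_assoc, hYZ w hw k hk, zero_mul]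
    have e : ⁅u, v⁆ = (u * u) * ((u⁻¹ * v) * (u⁻¹ * v)) * (v⁻¹ * v⁻¹) := by
      rw [commutatorElement_def]; group
    rw [mem_comap, e, map_mul, map_mul]
    exact mul_mem (mul_mem (hsq u hu) (hsq _ (mul_mem (inv_mem hu) hv))) (hsq _ (inv_mem hv))
  refine eq_one_of_unipotent ρ S.perfect fun u hu => ⟨3, ?_⟩
  set Y := ρ u - 1 with hYd
  set u' := a * u * a⁻¹
  have hY1 : Y * ρ u' = Y := sub_eq_zero.1 (by rw [← mul_sub_one]; exact hM u hu u hu)
  have hY2 : Y * ρ (u * u') = Y * ρ u := by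
    rw [map_mul, (rho_commute ρ (S.commute_conj ha han u hu u hu)).eq, ← mul_assoc, hY1]
  have hYX : Y * Y * ρ a = Y * Y := by
    have h1 : Y * ρ u * (ρ a - 1) = Y * (ρ a - 1) := by
      rw [← hY2, mul_assoc, (hHa u hu).1]
    refine sub_eq_zero.1 ?_
    calc Y * Y * ρ a - Y * Y = Y * ρ u * (ρ a - 1) - Y * (ρ a - 1) := by rw [hYd]; noncomm_ring
      _ = 0 := sub_eq_zero.2 h1
  have hswap : ρ a * Y = (ρ u' - 1) * ρ a := by
    rw [hYd, sub_mul, one_mul, rho_conj_mul, mul_sub, mul_one]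
  calc Y ^ 3 = Y * Y * Y := by noncomm_ring
    _ = Y * Y * ρ a * Y := by rw [hYX]
    _ = Y * Y * ((ρ u' - 1) * ρ a) := by rw [mul_assoc (Y * Y), hswap]
    _ = Y * (Y * (ρ u' - 1)) * ρ a := by simp only [mul_assoc]
    _ = 0 := by rw [hYd, hM u hu u hu, mul_zero, zero_mul]

omit [Finite V] in
theorem mul_mul_self_eq_or {T T' : Module.End (ZMod p) V}
    (hr : ∀ v w, T v ≠ 0 → T w ≠ 0 → T v = T w) : T * T' * T = 0 ∨ T * T' * T = T := by
  by_cases h : ∀ v, T (T' (T v)) = 0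
  · exact Or.inl (LinearMap.ext h)
  push Not at h
  obtain ⟨v, hv⟩ := h
  have hv0 : T v ≠ 0 := fun h0 => hv (by rw [h0, map_zero, map_zero])
  refine Or.inr (LinearMap.ext fun w => ?_)
  show T (T' (T w)) = T w
  by_cases hw : T w = 0
  · rw [hw, map_zero, map_zero]
  · rw [hr w v hw hv0]
    exact hr (T' (T v)) v hv hv0

omit [Finite V] in
theorem transvection_pow {T T' : Module.End (ZMod p) V} (h2 : ∀ x : Module.End (ZMod p) V, x + x = 0)
    (hT : T * T = 0) (hT' : T' * T' = 0) (h : T * T' * T = 0 ∨ T * T' * T = T)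
    (h' : T' * T * T' = 0 ∨ T' * T * T' = T') : ((1 + T) * (1 + T')) ^ 12 = 1 := by
  have hT0 : ∀ X, T * (T * X) = 0 := fun X => by rw [← mul_assoc, hT, zero_mul]
  have hT0' : ∀ X, T' * (T' * X) = 0 := fun X => by rw [← mul_assoc, hT', zero_mul]
  rw [mul_assoc] at h h'
  set g := (1 + T) * (1 + T')
  set s := T + T' + T * T' with hs
  have hg : g = 1 + s := by simp only [g, s]; noncomm_ring
  by_cases h4 : g ^ 4 = 1
  · rw [show (12 : ℕ) = 4 * 3 from rfl, pow_mul, h4, one_pow]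
  suffices h3 : g ^ 3 = 1 by rw [show (12 : ℕ) = 3 * 4 from rfl, pow_mul, h3, one_pow]
  have hfour : s * s * (s * s) = 0 → False := fun h0 => h4 (by
    rw [hg, show (1 + s) ^ 4 = 1 + ((s + s + (s + s)) + ((s * s + s * s) + (s * s + s * s) + (s * s + s * s))
      + ((s * s * s + s * s * s) + (s * s * s + s * s * s)) + s * s * (s * s)) by noncomm_ring]
    simp [h0, h2])
  have hss : s * s = T * T' + T' * T + T * (T' * T) + T' * (T * T') + T * (T' * (T * T')) := by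
    rw [hs]
    simp only [mul_add, add_mul, mul_assoc, hT, hT', hT0, hT0', mul_zero, zero_add, add_zero]
    abel
  rcases h with h | h
  · exfalso
    rcases h' with h' | h'
    · have h1 : ∀ X, T * (T' * (T * X)) = 0 := fun X => by
        rw [← mul_assoc T' T X, ← mul_assoc T, h, zero_mul]
      have h1' : ∀ X, T' * (T * (T' * X)) = 0 := fun X => by
        rw [← mul_assoc T T' X, ← mul_assoc T', h', zero_mul]
      refine hfour ?_
      rw [hss, h, h']
      simp only [mul_add, add_mul, mul_assoc, hT, hT', hT0, hT0', h, h', h1, h1', mul_zero, add_zero]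
    · have hTT' : T * T' = 0 := by
        conv_lhs => rw [← h']
        rw [← mul_assoc T' T T', ← mul_assoc T, h, zero_mul]
      have hT'0 : T' = 0 := by rw [← h', hTT', mul_zero]
      refine hfour ?_
      rw [hss, hT'0]; simp
  rcases h' with h' | h'
  · exfalso
    have hTT' : T * T' = 0 := by
      conv_lhs => rw [← h]
      rw [mul_assoc T (T' * T) T', mul_assoc T' T T', h', mul_zero]
    have hT0'' : T = 0 := by rw [← h, ← mul_assoc, hTT', zero_mul]
    refine hfour ?_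
    rw [hss, hT0'']; simp
  have hs2 : s * s = T + T' + T' * T := by
    rw [hss, h, h']
    calc T * T' + T' * T + T + T' + T * T' = (T * T' + T * T') + (T + T' + T' * T) := by abel
      _ = _ := by rw [h2, zero_add]
  have h1 : ∀ X, T * (T' * (T * X)) = T * X := fun X => by
    rw [← mul_assoc T' T X, ← mul_assoc T, h]
  have hs3 : s * (s * s) = T * T' + T' * T := by
    rw [hs2, hs]
    simp only [mul_add, add_mul, mul_assoc, hT, hT', hT0, hT0', h, h1, mul_zero, zero_add, add_zero]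
    calc _ = (T + T) + (T * T' + T' * T) := by abel
      _ = _ := by rw [h2, zero_add]
  rw [hg, show (1 + s) ^ 3 = 1 + ((s + s) + (s * s + s * s)) + (s + s * s + s * (s * s)) by noncomm_ring,
    h2, h2, hs3, hs2, hs]
  calc _ = 1 + ((T + T) + (T' + T') + (T * T' + T * T') + (T' * T + T' * T)) := by abel
    _ = 1 := by simp [h2]

/-- A mover acting as a transvection is impossible. -/
theorem eq_one_of_transvection (S : Setup p A K) (h2 : ∀ x : Module.End (ZMod p) V, x + x = 0) {x : G}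
    (hx : x ∈ A) (hxn : x ∉ normalizer (K : Set G)) (hxx : x * x = 1)
    (hr : ∀ v w, (ρ x - 1) v ≠ 0 → (ρ x - 1) w ≠ 0 → (ρ x - 1) v = (ρ x - 1) w) :
    ∀ u ∈ K, ρ u = 1 := by
  refine eq_one_of_pow_twelve ρ S.perfect fun u hu v hv => ?_
  set T := ρ x - 1 with hTd
  set x' := u * x * u⁻¹
  set T' := ρ x' - 1 with hTd'
  have h2' : ρ x + ρ x = 0 := h2 _
  have hT : T * T = 0 := by
    calc T * T = ρ x * ρ x - (ρ x + ρ x) + 1 := by rw [hTd]; noncomm_ring
      _ = 1 + 1 := by rw [← map_mul, hxx, map_one, h2', sub_zero]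
      _ = 0 := h2 1
  have hconj : ∀ y, T' y = ρ u (T (ρ u⁻¹ y)) := by
    have h : T' = ρ u * T * ρ u⁻¹ := by
      rw [hTd', hTd, mul_sub, sub_mul, mul_one, rho_mul_inv]
      simp only [x', map_mul]
    exact fun y => by rw [h]; rfl
  have hT' : T' * T' = 0 := by
    refine LinearMap.ext fun y => ?_
    show T' (T' y) = 0
    have hi : ∀ y, ρ u⁻¹ (ρ u y) = y := fun y => LinearMap.congr_fun (rho_inv_mul ρ u) y
    rw [hconj (T' y), hconj y, hi]
    show ρ u ((T * T) (ρ u⁻¹ y)) = 0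
    rw [hT]; simp
  have hr' : ∀ v w, T' v ≠ 0 → T' w ≠ 0 → T' v = T' w := by
    intro v w hv hw
    rw [hconj] at hv hw ⊢
    rw [hconj]
    exact congrArg _ (hr _ _ (fun h => hv (by rw [h, map_zero])) fun h => hw (by rw [h, map_zero]))
  have hg := transvection_pow h2 hT hT' (mul_mul_self_eq_or hr) (mul_mul_self_eq_or hr')
  rw [show 1 + T = ρ x by rw [hTd]; abel, show 1 + T' = ρ x' by rw [hTd']; abel, ← map_mul, ← map_pow]
    at hg
  have hxi : x⁻¹ = x := inv_eq_of_mul_eq_one_right hxx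
  have hcu : Commute (x * u * x⁻¹) u := (S.commute_conj hx hxn u hu u hu).symm
  have e : x * x' = (x * u * x⁻¹) * u⁻¹ := by rw [hxi]; simp only [x']; group
  rw [e, hcu.inv_right.mul_pow, inv_pow, map_mul] at hg
  have h12 : ρ ((x * u * x⁻¹) ^ 12) = ρ (u ^ 12) := by
    calc ρ ((x * u * x⁻¹) ^ 12) = ρ ((x * u * x⁻¹) ^ 12) * ρ (u ^ 12)⁻¹ * ρ (u ^ 12) := by
          rw [mul_assoc _ (ρ (u ^ 12)⁻¹), rho_inv_mul, mul_one]
      _ = ρ (u ^ 12) := by rw [hg, one_mul]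
  rw [← map_pow, ← h12]
  exact rho_commute ρ ((S.commute_conj hx hxn v hv u hu).pow_right 12).symm

end CfsgLib.LocalEven.PGV
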